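import Mathlib

/-!
# Twisted products of symmetric powers of the natural module of `SL₂`

The functions on pairs over a field with `p ^ f` elements spanned by the products over `i` of the
monomials of degree `a i` in the `p ^ i` powers of the coordinates.
-/

set_option autoImplicit false
set_option linter.unusedSectionVars false

namespace Cfsg.Lib.Linear.TwistPower

open Matrix Module Polynomial
open scoped MatrixGroups Pointwise

variable {F : Type*} [Field F] {K : Type*} [Field K]

/-- Functions on row vectors. -/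
abbrev Fn (F K : Type*) := (Fin 2 → F) → K

/-- The translation of a function. -/
def act (g : SL(2, F)) : Fn F K →ₐ[K] Fn F K where
  toFun φ v := φ (v ᵥ* (g : Matrix (Fin 2) (Fin 2) F))
  map_one' := rfl
  map_mul' _ _ := rfl
  map_zero' := rfl
  map_add' _ _ := rfl
  commutes' _ := rfl

theorem act_apply (g : SL(2, F)) (φ : Fn F K) (v : Fin 2 → F) :
    act g φ v = φ (v ᵥ* (g : Matrix (Fin 2) (Fin 2) F)) := rfl

theorem act_one (φ : Fn F K) : act (1 : SL(2, F)) φ = φ := by
  funext v; simp [act_apply]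

theorem act_mul (g h : SL(2, F)) (φ : Fn F K) : act (g * h) φ = act g (act h φ) := by
  funext v
  simp [act_apply, Matrix.vecMul_vecMul]

variable (ι : F →+* K)

/-- A linear form. -/
def lin (α β : K) : Fn F K := fun v => α * ι (v 0) + β * ι (v 1)

/-- The first coordinate. -/
def cx : Fn F K := fun v => ι (v 0)

/-- The second coordinate. -/
def cy : Fn F K := fun v => ι (v 1)

theorem lin_eq (α β : K) : lin ι α β = α • cx ι + β • cy ι := rfl

variable (p f : ℕ)

/-- The span of the powers of two functions. -/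
def pl (u w : Fn F K) (i : ℕ) : Submodule K (Fn F K) := Submodule.span K {u ^ p ^ i, w ^ p ^ i}

/-- The twisted product of symmetric powers. -/
def tp (a : Fin f → ℕ) : Submodule K (Fn F K) := ∏ i : Fin f, pl p (cx ι) (cy ι) i ^ a i

/-- The exponents below `a`. -/
abbrev Ix {f : ℕ} (a : Fin f → ℕ) := (i : Fin f) → Fin (a i + 1)

/-- The weighted sum of exponents. -/
def wsum {f : ℕ} (e : Fin f → ℕ) : ℕ := ∑ i, e i * p ^ (i : ℕ)

/-- The monomial in two functions. -/
def mon {f : ℕ} (u w : Fn F K) (a : Fin f → ℕ) (e : Ix a) : Fn F K :=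
  u ^ wsum p (fun i => (e i : ℕ)) * w ^ wsum p (fun i => a i - (e i : ℕ))

theorem mon_prod {f : ℕ} (u w : Fn F K) (a : Fin f → ℕ) (e : Ix a) :
    mon p u w a e = ∏ i : Fin f, (u ^ p ^ (i : ℕ)) ^ (e i : ℕ) * (w ^ p ^ (i : ℕ)) ^ (a i - (e i : ℕ)) := by
  simp only [mon, wsum, ← Finset.prod_pow_eq_pow_sum, ← pow_mul, mul_comm (p ^ _)]
  rw [Finset.prod_mul_distrib]

theorem span_pair_pow {A : Type*} [CommSemiring A] [Algebra K A] (u w : A) (n : ℕ) :
    (Submodule.span K ({u, w} : Set A)) ^ n =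
      Submodule.span K (Set.range fun j : Fin (n + 1) => u ^ (j : ℕ) * w ^ (n - (j : ℕ))) := by
  induction n with
  | zero =>
    rw [pow_zero, Submodule.one_eq_span]
    congr 1
    ext x
    simp
  | succ n ih =>
    rw [pow_succ, ih, Submodule.span_mul_span]
    refine le_antisymm (Submodule.span_le.2 ?_) (Submodule.span_le.2 ?_)
    · rintro _ ⟨_, ⟨j, rfl⟩, y, hy, rfl⟩
      rcases hy with rfl | rfl
      · refine Submodule.subset_span ⟨⟨j + 1, by omega⟩, ?_⟩
        simp only [Nat.succ_sub_succ_eq_sub, pow_succ]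
        ring
      · refine Submodule.subset_span ⟨⟨j, by omega⟩, ?_⟩
        simp only [show n + 1 - (j : ℕ) = n - j + 1 from by have := j.2; omega, pow_succ]
        ring
    · rintro _ ⟨j, rfl⟩
      by_cases hj : (j : ℕ) = 0
      · refine Submodule.subset_span
          ⟨_, ⟨⟨0, by omega⟩, rfl⟩, w, Or.inr rfl, ?_⟩
        simp only [hj, pow_zero, one_mul, Nat.sub_zero, pow_succ]
      · refine Submodule.subset_span
          ⟨_, ⟨⟨j - 1, by omega⟩, rfl⟩, u, Or.inl rfl, ?_⟩
        simp only [show n - ((j : ℕ) - 1) = n + 1 - j from by omega]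
        rw [mul_right_comm, ← pow_succ, show (j : ℕ) - 1 + 1 = j from by omega]

theorem prod_pl (u w : Fn F K) (a : Fin f → ℕ) :
    ∏ i : Fin f, pl p u w i ^ a i = Submodule.span K (Set.range (mon p u w a)) := by
  simp only [pl, span_pair_pow, Submodule.prod_span]
  refine congrArg _ (Set.ext fun x => ?_)
  rw [Set.mem_fintype_prod]
  constructor
  · rintro ⟨g, hg, rfl⟩
    choose e he using hg
    exact ⟨e, by rw [mon_prod]; exact Finset.prod_congr rfl fun i _ => he i⟩
  · rintro ⟨e, rfl⟩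
    exact ⟨_, fun i => ⟨e i, rfl⟩, (mon_prod p u w a e).symm⟩

theorem tp_eq (a : Fin f → ℕ) :
    tp ι p f a = Submodule.span K (Set.range (mon p (cx ι) (cy ι) a)) := prod_pl p f _ _ a

section Char

variable {p f} [Fact p.Prime] [CharP K p]

theorem wsum_lt {e : Fin f → ℕ} (he : ∀ i, e i < p) : wsum p e < p ^ f := by
  have h := finFunctionFinEquiv_apply_val (fun i => (⟨e i, he i⟩ : Fin p))
  rw [show wsum p e = (finFunctionFinEquiv (fun i => (⟨e i, he i⟩ : Fin p)) : ℕ) from h.symm]
  exact (finFunctionFinEquiv _).2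

theorem wsum_inj {e e' : Fin f → ℕ} (he : ∀ i, e i < p) (he' : ∀ i, e' i < p)
    (h : wsum p e = wsum p e') : e = e' := by
  have h1 := finFunctionFinEquiv_apply_val (fun i => (⟨e i, he i⟩ : Fin p))
  have h2 := finFunctionFinEquiv_apply_val (fun i => (⟨e' i, he' i⟩ : Fin p))
  have h3 := finFunctionFinEquiv.injective (Fin.ext (h1.trans (h.trans h2.symm)))
  funext i
  exact congrArg Fin.val (congrFun h3 i)

theorem wsum_surj {m : ℕ} (hm : m < p ^ f) : ∃ e : Fin f → ℕ, (∀ i, e i < p) ∧ wsum p e = m :=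
  ⟨fun i => finFunctionFinEquiv.symm ⟨m, hm⟩ i, fun i => (finFunctionFinEquiv.symm ⟨m, hm⟩ i).2, by
    have h := finFunctionFinEquiv_apply_val (finFunctionFinEquiv.symm ⟨m, hm⟩)
    rw [Equiv.apply_symm_apply] at h
    exact h.symm⟩

theorem Ix.lt {a : Fin f → ℕ} (ha : ∀ i, a i < p) (e : Ix a) (i : Fin f) : (e i : ℕ) < p := by
  have := (e i).2
  have := ha i
  omega

theorem wsum_add {a : Fin f → ℕ} (e : Ix a) :
    wsum p (fun i => (e i : ℕ)) + wsum p (fun i => a i - (e i : ℕ)) = wsum p a := by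
  simp only [wsum, ← Finset.sum_add_distrib, ← add_mul]
  refine Finset.sum_congr rfl fun i _ => ?_
  congr 1
  have := (e i).2
  omega

/-- A polynomial of small degree vanishing at all arguments is zero. -/
theorem coeff_zero_of_eval [Fintype F] (hq : Fintype.card F = p ^ f) {κ : Type*} [Fintype κ]
    (E : κ → ℕ) (hE : Function.Injective E) (hlt : ∀ k, E k < p ^ f) (c : κ → K)
    (h : ∀ t : F, ∑ k, c k * ι t ^ E k = 0) (k : κ) : c k = 0 := by
  classical
  set P : K[X] := ∑ k, C (c k) * Polynomial.X ^ E k with hP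
  have hdeg : P.natDegree < p ^ f := by
    refine lt_of_le_of_lt (natDegree_sum_le_of_forall_le _ _ (n := p ^ f - 1) fun j _ => ?_)
      (by have := hlt k; omega)
    exact (natDegree_C_mul_X_pow_le _ _).trans (Nat.le_sub_one_of_lt (hlt j))
  have hz : P = 0 := by
    refine eq_zero_of_natDegree_lt_card_of_eval_eq_zero P (f := ι) ι.injective (fun t => ?_)
      (by rw [hq]; exact hdeg)
    rw [hP, eval_finsetSum]
    simpa using h t
  have h' := congrArg (fun Q => Polynomial.coeff Q (E k)) hz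
  simpa [hP, finsetSum_coeff, coeff_C_mul_X_pow, hE.eq_iff] using h'

variable [Fintype F] (hq : Fintype.card F = p ^ f)

include hq

theorem mon_indep {a : Fin f → ℕ} (ha : ∀ i, a i < p) :
    LinearIndependent K (mon p (cx ι) (cy ι) a) := by
  rw [Fintype.linearIndependent_iff]
  intro c hc
  refine coeff_zero_of_eval ι hq (fun e : Ix a => wsum p fun i => (e i : ℕ)) ?_
    (fun e => wsum_lt (Ix.lt ha e)) c fun t => ?_
  · intro e e' h
    funext i
    exact Fin.ext (congrFun (wsum_inj (Ix.lt ha e) (Ix.lt ha e') h) i)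
  · have h := congrFun hc ![t, 1]
    simpa [mon, cx, cy] using h

theorem finrank_tp {a : Fin f → ℕ} (ha : ∀ i, a i < p) :
    finrank K (tp ι p f a) = Fintype.card (Ix a) := by
  rw [tp_eq, finrank_span_eq_card (mon_indep ι hq ha)]

omit hq in
theorem lin_pow (α β : K) (i : ℕ) :
    lin ι α β ^ p ^ i = α ^ p ^ i • cx ι ^ p ^ i + β ^ p ^ i • cy ι ^ p ^ i := by
  funext v
  simp [lin, cx, cy, add_pow_char_pow, mul_pow]

omit hq in
/-- The products over another pair of coordinates. -/
theorem pl_lin {α β γ δ : K} (hd : α * δ - β * γ ≠ 0) (i : ℕ) :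
    pl p (lin ι α β) (lin ι γ δ) i = pl p (cx ι) (cy ι) i := by
  have hd' : α ^ p ^ i * δ ^ p ^ i - β ^ p ^ i * γ ^ p ^ i ≠ 0 := by
    rw [← mul_pow, ← mul_pow, ← sub_pow_char_pow]
    exact pow_ne_zero _ hd
  refine le_antisymm (Submodule.span_le.2 ?_) (Submodule.span_le.2 ?_)
  · rintro _ (rfl | rfl) <;> rw [SetLike.mem_coe, lin_pow] <;>
      exact Submodule.add_mem _ (Submodule.smul_mem _ _ (Submodule.subset_span (Or.inl rfl)))
        (Submodule.smul_mem _ _ (Submodule.subset_span (Or.inr rfl)))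
  · obtain ⟨A, hA⟩ : ∃ A, α ^ p ^ i = A := ⟨_, rfl⟩
    obtain ⟨B, hB⟩ : ∃ B, β ^ p ^ i = B := ⟨_, rfl⟩
    obtain ⟨C, hC⟩ : ∃ C, γ ^ p ^ i = C := ⟨_, rfl⟩
    obtain ⟨D, hD⟩ : ∃ D, δ ^ p ^ i = D := ⟨_, rfl⟩
    rw [hA, hB, hC, hD] at hd'
    rintro _ (rfl | rfl)
    · have h : cx ι ^ p ^ i = (D / (A * D - B * C)) • lin ι α β ^ p ^ i +
          (-B / (A * D - B * C)) • lin ι γ δ ^ p ^ i := by
        rw [lin_pow, lin_pow, hA, hB, hC, hD]
        match_scalars <;> rw [mul_one, mul_one, div_mul_eq_mul_div, div_mul_eq_mul_div, ← add_div,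
          eq_div_iff hd'] <;> ring
      rw [SetLike.mem_coe, h]
      exact Submodule.add_mem _ (Submodule.smul_mem _ _ (Submodule.subset_span (Or.inl rfl)))
        (Submodule.smul_mem _ _ (Submodule.subset_span (Or.inr rfl)))
    · have h : cy ι ^ p ^ i = (-C / (A * D - B * C)) • lin ι α β ^ p ^ i +
          (A / (A * D - B * C)) • lin ι γ δ ^ p ^ i := by
        rw [lin_pow, lin_pow, hA, hB, hC, hD]
        match_scalars <;> rw [mul_one, mul_one, div_mul_eq_mul_div, div_mul_eq_mul_div, ← add_div,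
          eq_div_iff hd'] <;> ring
      rw [SetLike.mem_coe, h]
      exact Submodule.add_mem _ (Submodule.smul_mem _ _ (Submodule.subset_span (Or.inl rfl)))
        (Submodule.smul_mem _ _ (Submodule.subset_span (Or.inr rfl)))

omit hq in
theorem tp_lin {α β γ δ : K} (hd : α * δ - β * γ ≠ 0) (a : Fin f → ℕ) :
    tp ι p f a = Submodule.span K (Set.range (mon p (lin ι α β) (lin ι γ δ) a)) := by
  rw [← prod_pl, tp]
  exact Finset.prod_congr rfl fun i _ => by rw [pl_lin ι hd]

omit hq in
theorem act_coord (g : SL(2, F)) (j : Fin 2) :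
    act g (fun v => ι (v j)) = lin ι (ι (g.1 0 j)) (ι (g.1 1 j)) := by
  funext v
  simp [act_apply, lin, Matrix.vecMul, dotProduct, Fin.sum_univ_two, mul_comm]

omit hq in
theorem tp_invariant (g : SL(2, F)) (a : Fin f → ℕ) : ∀ φ ∈ tp ι p f a, act g φ ∈ tp ι p f a := by
  have hd : ι (g.1 0 0) * ι (g.1 1 1) - ι (g.1 1 0) * ι (g.1 0 1) ≠ 0 := by
    rw [← map_mul, ← map_mul, ← map_sub, show g.1 0 0 * g.1 1 1 - g.1 1 0 * g.1 0 1 = g.1.det by
      rw [Matrix.det_fin_two]; ring, g.2, map_one]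
    exact one_ne_zero
  intro φ hφ
  rw [tp_eq] at hφ
  rw [tp_lin ι hd a]
  have h := Submodule.mem_map_of_mem (f := (act g).toLinearMap) hφ
  rw [Submodule.map_span, ← Set.range_comp] at h
  refine (Submodule.span_mono ?_) h
  rintro _ ⟨e, rfl⟩
  refine ⟨e, ?_⟩
  simp only [Function.comp_apply, AlgHom.toLinearMap_apply, mon, map_mul, map_pow]
  rw [show cx ι = fun v : Fin 2 → F => ι (v 0) from rfl, show cy ι = fun v : Fin 2 → F => ι (v 1) from rfl,
    act_coord, act_coord]

/-- The operator of a group element on the twisted product. -/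
noncomputable def tpOp (a : Fin f → ℕ) (g : SL(2, F)) : Module.End K (tp ι p f a) :=
  (act g).toLinearMap.restrict (tp_invariant ι g a)

/-- The eigenbasis from two eigenforms. -/
theorem exists_eigenbasis {a : Fin f → ℕ} (ha : ∀ i, a i < p) (g : SL(2, F)) {α β γ δ l l' : K}
    (hd : α * δ - β * γ ≠ 0) (h1 : act g (lin ι α β) = l • lin ι α β)
    (h2 : act g (lin ι γ δ) = l' • lin ι γ δ) :
    ∃ b : Basis (Ix a) K (tp ι p f a), ∀ e, tpOp ι a g (b e) =
      (l ^ wsum p (fun i => (e i : ℕ)) * l' ^ wsum p (fun i => a i - (e i : ℕ))) • b e := by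
  classical
  set N := mon p (lin ι α β) (lin ι γ δ) a with hN
  have hmem : ∀ e, N e ∈ tp ι p f a := fun e =>
    tp_lin ι hd a ▸ Submodule.subset_span ⟨e, rfl⟩
  let v : Ix a → tp ι p f a := fun e => ⟨N e, hmem e⟩
  have hspan : ⊤ ≤ Submodule.span K (Set.range v) := by
    intro x _
    have hx : (x : Fn F K) ∈ Submodule.span K (Set.range N) := tp_lin ι hd a ▸ x.2
    rw [← Submodule.apply_mem_span_image_iff_mem_span (f := (tp ι p f a).subtype)
      Subtype.val_injective, ← Set.range_comp]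
    exact hx
  let b := basisOfTopLeSpanOfCardEqFinrank v hspan (finrank_tp ι hq ha).symm
  have hb : ∀ e, b e = v e := fun e => by
    rw [show (b : Ix a → tp ι p f a) = v from coe_basisOfTopLeSpanOfCardEqFinrank _ _ _]
  refine ⟨b, fun e' => ?_⟩
  rw [hb]
  refine Subtype.ext ?_
  show act g (N e') = _ • N e'
  rw [hN, mon, map_mul, map_pow, map_pow, h1, h2, _root_.smul_pow, _root_.smul_pow,
    smul_mul_smul_comm]

/-- The lower translates of the highest monomial span. -/
theorem top_generates {a : Fin f → ℕ} (ha : ∀ i, a i < p) {W : Submodule K (Fn F K)}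
    (hW : ∀ g : SL(2, F), ∀ φ ∈ W, act g φ ∈ W) (h : cx ι ^ wsum p a ∈ W) : tp ι p f a ≤ W := by
  classical
  rw [tp_eq, Submodule.span_le]
  rintro _ ⟨e₀, rfl⟩
  by_contra hne
  obtain ⟨L, hL, hLW⟩ := Submodule.exists_dual_map_eq_bot_of_notMem hne inferInstance
  let M := mon p (cx ι) (cy ι) a
  let c : Ix a → K := fun e =>
    (∏ i, ((a i).choose (a i - (e i : ℕ)) : K)) * L (M e)
  have hc : ∀ t : F, ∑ e, c e * ι t ^ wsum p (fun i => a i - (e i : ℕ)) = 0 := by
    intro t
    let g : SL(2, F) := ⟨!![1, 0; t, 1], by simp [Matrix.det_fin_two_of]⟩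
    have hg := hW g _ h
    have hL0 : L (act g (cx ι ^ wsum p a)) = 0 := by
      have := Submodule.mem_map_of_mem (f := L) hg
      rwa [hLW, Submodule.mem_bot] at this
    rw [← hL0]
    have hexp : act g (cx ι ^ wsum p a) =
        ∑ e : Ix a, ((∏ i, ((a i).choose (a i - (e i : ℕ)) : K)) *
          ι t ^ wsum p (fun i => a i - (e i : ℕ))) • M e := by
      funext v
      simp only [Pi.pow_apply, act_apply, Finset.sum_apply, Pi.smul_apply, smul_eq_mul, M,
        mon_prod, Finset.prod_apply, Pi.mul_apply]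
      have hv : cx ι (v ᵥ* (g : Matrix (Fin 2) (Fin 2) F)) = ι (v 0) + ι (v 1) * ι t := by
        simp [cx, g, Matrix.vecMul, dotProduct, Fin.sum_univ_two]
      rw [hv]
      simp only [wsum, ← Finset.prod_pow_eq_pow_sum, ← Finset.prod_mul_distrib, cx, cy]
      calc ∏ i : Fin f, (ι (v 0) + ι (v 1) * ι t) ^ (a i * p ^ (i : ℕ))
          = ∏ i : Fin f, ∑ j : Fin (a i + 1),
              ((a i).choose (a i - (j : ℕ)) : K) * ι t ^ ((a i - (j : ℕ)) * p ^ (i : ℕ)) *
                ((ι (v 0) ^ p ^ (i : ℕ)) ^ (j : ℕ) * (ι (v 1) ^ p ^ (i : ℕ)) ^ (a i - (j : ℕ))) := by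
            refine Finset.prod_congr rfl fun i _ => ?_
            rw [mul_comm (a i), pow_mul, add_pow_char_pow, add_pow,
              Fin.sum_univ_eq_sum_range (fun j => ((a i).choose (a i - j) : K) *
                ι t ^ ((a i - j) * p ^ (i : ℕ)) *
                  ((ι (v 0) ^ p ^ (i : ℕ)) ^ j * (ι (v 1) ^ p ^ (i : ℕ)) ^ (a i - j)))]
            refine Finset.sum_congr rfl fun j hj => ?_
            rw [Finset.mem_range] at hj
            rw [Nat.choose_symm (by omega)]
            simp only [← pow_mul, mul_pow]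
            ring
        _ = _ := Finset.prod_univ_sum _ _
    rw [hexp, map_sum]
    refine Finset.sum_congr rfl fun e _ => ?_
    simp only [c, map_smul, smul_eq_mul]
    ring
  have hinj : Function.Injective fun e : Ix a => wsum p (fun i => a i - (e i : ℕ)) := by
    intro e e' he
    have h1 : ∀ e : Ix a, ∀ i, a i - (e i : ℕ) < p := fun e i => by have := ha i; omega
    funext i
    have h2 : a i - (e i : ℕ) = a i - (e' i : ℕ) := congrFun (wsum_inj (h1 e) (h1 e') he) i
    have := (e i).2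
    have := (e' i).2
    exact Fin.ext (by omega)
  have h0 := coeff_zero_of_eval ι hq _ hinj (fun e => wsum_lt fun i => by have := ha i; omega) c hc e₀
  rcases mul_eq_zero.1 h0 with h0 | h0
  · obtain ⟨i, -, hi⟩ := Finset.prod_eq_zero_iff.1 h0
    rw [CharP.cast_eq_zero_iff K p] at hi
    have h1 := Nat.choose_mul_factorial_mul_factorial (Nat.sub_le (a i) (e₀ i : ℕ))
    have h2 : p ∣ Nat.factorial (a i) := h1 ▸ Dvd.dvd.mul_right (Dvd.dvd.mul_right hi _) _
    exact absurd ((Nat.Prime.dvd_factorial Fact.out).1 h2) (not_le.2 (ha i))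
  · exact hL h0

omit hq in
theorem top_mem (a : Fin f → ℕ) : cx ι ^ wsum p a ∈ tp ι p f a := by
  rw [tp_eq]
  refine Submodule.subset_span ⟨fun i => ⟨a i, by omega⟩, ?_⟩
  simp [mon, wsum]

end Char

end Cfsg.Lib.Linear.TwistPower
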