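import Cfsg.Agent.Lib.Linear.TwistPower.Semilinear

/-!
# Exponents of the roots attached to an orbit of twisted products

If the eigenvalues of an element on the natural module are `ω ^ (± 1)` with `ω ^ N = 1`, its
eigenvalues on an orbit of twisted products are the powers of `ω` with the listed exponents.
-/

set_option autoImplicit false

namespace Cfsg.Lib.Linear.TwistPower

open Polynomial Matrix
open scoped MatrixGroups

/-- The exponents on a product of digits with places. -/
def boxL (N : ℕ) : List (ℕ × ℕ) → List ℕ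
  | [] => [0]
  | (b, P) :: rest =>
    (List.range (b + 1)).flatMap fun k =>
      (boxL N rest).map fun s => ((k + (N - 1) * (b - k)) * P + s) % N

/-- The exponents on an orbit. -/
def orbExp (N p : ℕ) {f : ℕ} [NeZero f] (x : (Fin f → ℕ) × ℕ) : List ℕ :=
  (List.range x.2).flatMap fun i => boxL N (List.ofFn fun j : Fin f => (shift^[i] x.1 j, p ^ (j : ℕ)))

theorem boxL_lt {N : ℕ} (hN : 1 < N) : ∀ l : List (ℕ × ℕ), ∀ n ∈ boxL N l, n < N
  | [], n, hn => by simp [boxL] at hn; omega
  | (b, P) :: rest, n, hn => by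
    simp only [boxL, List.mem_flatMap, List.mem_map] at hn
    obtain ⟨k, -, s, -, rfl⟩ := hn
    exact Nat.mod_lt _ (by omega)

theorem orbExp_lt {N p f : ℕ} [NeZero f] (hN : 1 < N) (x : (Fin f → ℕ) × ℕ) :
    ∀ n ∈ orbExp N p x, n < N := fun n hn => by
  simp only [orbExp, List.mem_flatMap] at hn
  obtain ⟨i, -, hi⟩ := hn
  exact boxL_lt hN _ n hi

variable {K : Type*} [Field K]

theorem box_prod {M : Type*} [CommMonoid M] {N : ℕ} (ω : K) (hω : ω ^ N = 1) :
    ∀ (f : ℕ) (b P : Fin f → ℕ) (G : K → M),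
    ∏ e : Ix b, G (ω ^ ∑ j, ((e j : ℕ) + (N - 1) * (b j - (e j : ℕ))) * P j) =
      ((boxL N (List.ofFn fun j => (b j, P j))).map fun n => G (ω ^ n)).prod
  | 0, b, P, G => by simp [boxL]
  | f + 1, b, P, G => by
    let b' : Fin f → ℕ := fun i => b i.succ
    have h1 : ∏ e : Ix b, G (ω ^ ∑ j, ((e j : ℕ) + (N - 1) * (b j - (e j : ℕ))) * P j) =
        ∏ k : Fin (b 0 + 1), ∏ e : Ix b', G (ω ^ (((k : ℕ) + (N - 1) * (b 0 - (k : ℕ))) * P 0 +
          ∑ j, ((e j : ℕ) + (N - 1) * (b' j - (e j : ℕ))) * P j.succ)) := by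
      rw [← (Fin.consEquiv fun i : Fin (f + 1) => Fin (b i + 1)).prod_comp, Fintype.prod_prod_type]
      refine Finset.prod_congr rfl fun k _ => Finset.prod_congr rfl fun e _ => ?_
      rw [Fin.sum_univ_succ]
      rfl
    rw [h1, List.ofFn_succ, boxL, List.map_flatMap, List.flatMap_def, List.prod_flatten,
      List.map_map, Fin.prod_univ_eq_prod_range (fun k => ∏ e : Ix b',
        G (ω ^ ((k + (N - 1) * (b 0 - k)) * P 0 +
          ∑ j, ((e j : ℕ) + (N - 1) * (b' j - (e j : ℕ))) * P j.succ))), ← List.toFinset_range,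
      List.prod_toFinset _ List.nodup_range]
    refine congrArg List.prod (List.map_congr_left fun k _ => ?_)
    simp only [Function.comp_apply, List.map_map]
    have h2 := box_prod ω hω f b' (fun j => P j.succ)
      (fun z => G (ω ^ ((k + (N - 1) * (b 0 - k)) * P 0) * z))
    simp only [← pow_add] at h2
    rw [h2]
    refine congrArg List.prod (List.map_congr_left fun n _ => ?_)
    simp only [Function.comp_apply]
    rw [← pow_eq_pow_mod _ hω]

/-- The roots on an orbit. -/
theorem orbPoly_eq {N p f : ℕ} [NeZero f] (ω : K) (hω : ω ^ N = 1) (x : (Fin f → ℕ) × ℕ) :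
    orbPoly p ω (ω ^ (N - 1)) x = ((orbExp N p x).map fun n => X - C (ω ^ n)).prod := by
  rw [orbExp, List.map_flatMap, List.flatMap_def, List.prod_flatten, List.map_map, orbPoly,
    Fin.prod_univ_eq_prod_range (fun i => ∏ e : Ix (shift^[i] x.1),
      (X - C (ω ^ wsum p (fun j => (e j : ℕ)) *
        (ω ^ (N - 1)) ^ wsum p (fun j => shift^[i] x.1 j - (e j : ℕ))))), ← List.toFinset_range,
    List.prod_toFinset _ List.nodup_range]
  refine congrArg List.prod (List.map_congr_left fun i _ => ?_)
  simp only [Function.comp_apply]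
  rw [← box_prod ω hω f (shift^[i] x.1) (fun j => p ^ (j : ℕ)) fun z => X - C z]
  refine Finset.prod_congr rfl fun e _ => ?_
  rw [← pow_mul]
  simp only [wsum, Finset.mul_sum]
  refine congrArg (fun z => X - C z) ((pow_add ω _ _).symm.trans ?_)
  rw [← Finset.sum_add_distrib]
  exact congrArg (fun n => ω ^ n) (Finset.sum_congr rfl fun j _ => by ring)

theorem prod_flatMap_map {α : Type*} (L : List α) (E : α → List ℕ) (G : ℕ → K[X]) :
    (L.map fun a => ((E a).map G).prod).prod = ((L.flatMap E).map G).prod := by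
  induction L with
  | nil => rfl
  | cons a L ih => simp [ih]

/-- Equal products of linear factors have equal exponent counts. -/
theorem count_eq {N : ℕ} {ω : K} (hω : IsPrimitiveRoot ω N) {l l' : List ℕ}
    (hl : ∀ n ∈ l, n < N) (hl' : ∀ n ∈ l', n < N)
    (h : (l.map fun n => X - C (ω ^ n)).prod = (l'.map fun n => X - C (ω ^ n)).prod) {m : ℕ}
    (hm : m < N) : l.count m = l'.count m := by
  classical
  have hr : ∀ l : List ℕ, ((l.map fun n => X - C (ω ^ n)).prod).roots =
      ((l.map fun n => ω ^ n : List K) : Multiset K) := fun l => by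
    rw [← Polynomial.roots_multiset_prod_X_sub_C ((l.map fun n => ω ^ n : List K) : Multiset K)]
    simp only [Multiset.map_coe, Multiset.prod_coe, List.map_map]
    rfl
  have hc : ∀ l : List ℕ, (∀ n ∈ l, n < N) → (l.map fun n => ω ^ n).count (ω ^ m) = l.count m := by
    intro l hl
    induction l with
    | nil => rfl
    | cons a l ih =>
      rw [List.map_cons, List.count_cons, List.count_cons,
        ih fun n hn => hl n (List.mem_cons_of_mem _ hn)]
      by_cases ha : a = m
      · simp [ha]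
      · have hne : ω ^ a ≠ ω ^ m := fun h => ha (hω.pow_inj (hl a List.mem_cons_self) hm h)
        simp [ha, hne]
  have h2 := congrArg (Multiset.count (ω ^ m)) ((hr l).symm.trans ((congrArg roots h).trans (hr l')))
  rwa [Multiset.coe_count, Multiset.coe_count, hc l hl, hc l' hl'] at h2

variable {F : Type*} [Field F] (ι : F →+* K)

/-- The companion element of trace `s`. -/
def comp (s : F) : SL(2, F) := ⟨!![0, -1; 1, s], by simp [Matrix.det_fin_two_of]⟩

theorem comp_one_zero (s : F) : (comp s).1 1 0 = 1 := by simp [comp]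

theorem comp_zero_sq : comp (0 : F) * comp 0 = -1 := by
  ext i j
  rw [Matrix.SpecialLinearGroup.coe_mul]
  fin_cases i <;> fin_cases j <;> simp [comp]

/-- The eigenforms of a companion element. -/
theorem comp_eigen {ζ : K} (hζ0 : ζ ≠ 0) {s : F} (hs : ι s = ζ + ζ⁻¹) :
    act (comp s) (lin ι 1 (-ζ)) = ζ • lin ι 1 (-ζ) := by
  funext v
  show lin ι _ _ (v ᵥ* !![0, -1; 1, s]) = _
  rw [vecMul_two]
  simp [lin, hs]
  field_simp
  ring

theorem comp_eigen_inv {ζ : K} (hζ0 : ζ ≠ 0) {s : F} (hs : ι s = ζ + ζ⁻¹) :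
    act (comp s) (lin ι 1 (-ζ⁻¹)) = ζ⁻¹ • lin ι 1 (-ζ⁻¹) :=
  comp_eigen ι (inv_ne_zero hζ0) (by rw [hs, inv_inv, add_comm])

theorem comp_det {ζ : K} (hζ : ζ ^ 2 ≠ 1) (hζ0 : ζ ≠ 0) : (1 : K) * -ζ⁻¹ - -ζ * 1 ≠ 0 := by
  intro h
  apply hζ
  field_simp at h
  linear_combination h

/-- A companion element has the order of its eigenvalue. -/
theorem comp_pow {ζ : K} (hζ : ζ ^ 2 ≠ 1) (hζ0 : ζ ≠ 0) {s : F} (hs : ι s = ζ + ζ⁻¹) {n : ℕ}
    (hn : ζ ^ n = 1) : comp s ^ n = 1 := by
  have key : ∀ {α β l : K}, act (comp s) (lin ι α β) = l • lin ι α β → ∀ k : ℕ,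
      act (comp s ^ k) (lin ι α β) = l ^ k • lin ι α β := by
    intro α β l h k
    induction k with
    | zero => rw [pow_zero, act_one, pow_zero, one_smul]
    | succ k ih => rw [pow_succ, act_mul, h, map_smul, ih, smul_smul, pow_succ']
  have h1 := key (comp_eigen ι hζ0 hs) n
  have h2 := key (comp_eigen_inv ι hζ0 hs) n
  rw [hn, one_smul] at h1
  rw [inv_pow, hn, inv_one, one_smul] at h2
  have hd := comp_det hζ hζ0
  have hv : ∀ v : Fin 2 → F, v ᵥ* (comp s ^ n).1 = v := by
    intro v
    have e1 := congrFun h1 v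
    have e2 := congrFun h2 v
    rw [act_apply] at e1 e2
    simp only [lin, one_mul] at e1 e2
    set u := v ᵥ* (comp s ^ n).1
    have e3 : ι (u 1) = ι (v 1) := by
      refine mul_left_cancel₀ hd ?_
      linear_combination e2 - e1
    funext j
    fin_cases j
    · refine ι.injective ?_
      rw [e3] at e1
      simpa using e1
    · exact ι.injective e3
  ext i j
  have h := congrFun (hv (Pi.single i 1)) j
  rw [Matrix.single_one_vecMul] at h
  simpa [Matrix.one_apply, Pi.single_apply, eq_comm] using h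

end Cfsg.Lib.Linear.TwistPower
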