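import Cfsg.Agent.Lib.Linear.TwistPower.Simple
import Cfsg.Agent.Lib.Linear.IsotropicFix.Split

/-!
# Semilinear modules of `SL₂` in defining characteristic

If a module over a finite field commutes with a periodic Frobenius-semilinear map, its
characteristic polynomials are products over Galois orbits of twisted products.
-/

set_option autoImplicit false
set_option linter.unusedSectionVars false

namespace Cfsg.Lib.Linear.TwistPower

open Matrix Module Polynomial
open scoped MatrixGroups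

/-- The rotation of digits. -/
def shift {f : ℕ} [NeZero f] (a : Fin f → ℕ) : Fin f → ℕ := fun j => a (j - 1)

/-- A digit vector with the size of its orbit under rotation. -/
def IsOrbit (p : ℕ) {f : ℕ} [NeZero f] (x : (Fin f → ℕ) × ℕ) : Prop :=
  (∀ i, x.1 i < p) ∧ 0 < x.2 ∧ x.2 ≤ f ∧ shift^[x.2] x.1 = x.1 ∧
    ∀ i < x.2, i ≠ 0 → shift^[i] x.1 ≠ x.1

/-- The characteristic polynomial attached to an orbit. -/
noncomputable def orbPoly {K : Type*} [Field K] (p : ℕ) {f : ℕ} [NeZero f] (l l' : K)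
    (x : (Fin f → ℕ) × ℕ) : K[X] :=
  ∏ i : Fin x.2, ∏ e : Ix (shift^[(i : ℕ)] x.1),
    (Polynomial.X - C (l ^ wsum p (fun j => (e j : ℕ)) *
      l' ^ wsum p (fun j => shift^[(i : ℕ)] x.1 j - (e j : ℕ))))

theorem shift_apply_add {f : ℕ} [NeZero f] (a : Fin f → ℕ) (j : Fin f) :
    shift a (j + 1) = a j := by simp [shift]

theorem shift_iterate {f : ℕ} [NeZero f] (a : Fin f → ℕ) (n : ℕ) (j : Fin f) :
    shift^[n] a j = a (j - Fin.ofNat f n) := by
  induction n generalizing j with
  | zero => simp [Fin.ofNat]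
  | succ n ih =>
    rw [Function.iterate_succ_apply', shift, ih]
    congr 1
    rw [show Fin.ofNat f (n + 1) = Fin.ofNat f n + 1 from ?_]
    · abel
    · ext; simp [Fin.ofNat, Fin.val_add]

theorem shift_period {f : ℕ} [NeZero f] (a : Fin f → ℕ) : shift^[f] a = a := by
  funext j
  rw [shift_iterate]
  congr 1
  rw [show Fin.ofNat f f = 0 from ?_, sub_zero]
  ext; simp [Fin.ofNat]

theorem shift_lt {f : ℕ} [NeZero f] {p : ℕ} {a : Fin f → ℕ} (ha : ∀ i, a i < p) (n : ℕ)
    (i : Fin f) : shift^[n] a i < p := by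
  rw [shift_iterate]; exact ha _

/-- The least period of a digit vector. -/
theorem exists_isOrbit {f : ℕ} [NeZero f] {p : ℕ} {a : Fin f → ℕ} (ha : ∀ i, a i < p) :
    ∃ r, IsOrbit p (a, r) := by
  classical
  have hex : ∃ r, 0 < r ∧ shift^[r] a = a := ⟨f, NeZero.pos f, shift_period a⟩
  exact ⟨Nat.find hex, ha, (Nat.find_spec hex).1, Nat.find_le ⟨NeZero.pos f, shift_period a⟩,
    (Nat.find_spec hex).2, fun i hi hi0 h => Nat.find_min hex hi ⟨Nat.pos_of_ne_zero hi0, h⟩⟩

theorem orbit_dvd {f : ℕ} [NeZero f] {p : ℕ} {x : (Fin f → ℕ) × ℕ} (hx : IsOrbit p x) :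
    x.2 ∣ f := by
  obtain ⟨-, hr, -, hper, hmin⟩ := hx
  rw [Nat.dvd_iff_mod_eq_zero]
  by_contra h
  have hk : ∀ k, shift^[x.2 * k] x.1 = x.1 := fun k => by
    induction k with
    | zero => rfl
    | succ k ih => rw [Nat.mul_succ, Function.iterate_add_apply, hper, ih]
  refine hmin _ (Nat.mod_lt _ hr) h ?_
  have h2 := (congrArg (fun n => shift^[n] x.1) (Nat.mod_add_div f x.2)).trans (shift_period x.1)
  simpa only [Function.iterate_add_apply, hk] using h2

variable {F : Type*} [Field F] [Fintype F] {K : Type*} [Field K] (ι : F →+* K) {p f : ℕ}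
  [Fact p.Prime] [CharP K p]

/-- The pointwise Frobenius map on functions is additive. -/
theorem fn_add_pow (φ ψ : Fn F K) : (φ + ψ) ^ p = φ ^ p + ψ ^ p := by
  funext v; simp [add_pow_char]

variable (hq : Fintype.card F = p ^ f) [NeZero f]

include hq

theorem cx_pow (a : Fin f → ℕ) :
    (cx ι ^ wsum p a) ^ p = cx ι ^ wsum p (shift a) := by
  have h : ∀ i : Fin f, (cx ι ^ p ^ (i : ℕ)) ^ p = cx ι ^ p ^ ((i + 1 : Fin f) : ℕ) := by
    intro i
    rw [← pow_mul, ← pow_succ]
    by_cases hi : (i : ℕ) + 1 < f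
    · rw [Fin.val_add_one_of_lt' hi]
    · have h1 : (i : ℕ) + 1 = f := by omega
      have h2 : ((i + 1 : Fin f) : ℕ) = 0 := by
        simp [Fin.val_add, h1]
      rw [h1, h2, pow_zero, pow_one]
      funext v
      rw [Pi.pow_apply, cx, ← map_pow, ← hq, FiniteField.pow_card]
  simp only [wsum, ← Finset.prod_pow_eq_pow_sum, mul_comm (_ : ℕ) (p ^ _), pow_mul,
    ← Finset.prod_pow]
  refine Fintype.prod_bijective (fun i : Fin f => i + 1) (Equiv.addRight (1 : Fin f)).bijective _ _
    fun i => ?_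
  rw [shift_apply_add, ← pow_mul, mul_comm, pow_mul, h]

/-- The Frobenius map between twisted products. -/
theorem pow_mem {a : Fin f → ℕ} (ha : ∀ i, a i < p) {φ : Fn F K} (hφ : φ ∈ tp ι p f a) :
    φ ^ p ∈ tp ι p f (shift a) := by
  let W : Submodule K (Fn F K) :=
    { carrier := {φ | φ ^ p ∈ tp ι p f (shift a)}
      zero_mem' := by simp [zero_pow (Fact.out : p.Prime).ne_zero]
      add_mem' := fun {x y} hx hy => by
        rw [Set.mem_setOf_eq, fn_add_pow]; exact Submodule.add_mem _ hx hy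
      smul_mem' := fun c x hx => by
        rw [Set.mem_setOf_eq, _root_.smul_pow]; exact Submodule.smul_mem _ _ hx }
  refine top_generates ι hq ha (W := W) (fun g ψ hψ => ?_) ?_ hφ
  · show (act g ψ) ^ p ∈ tp ι p f (shift a)
    rw [← map_pow]
    exact tp_invariant ι g _ _ hψ
  · show (cx ι ^ wsum p a) ^ p ∈ tp ι p f (shift a)
    rw [cx_pow ι hq]
    exact top_mem ι _

/-- The Frobenius map between twisted products. -/
def frob {a : Fin f → ℕ} (ha : ∀ i, a i < p) (φ : tp ι p f a) : tp ι p f (shift a) :=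
  ⟨φ.1 ^ p, pow_mem ι hq ha φ.2⟩

theorem frob_bijective [Finite K] {a : Fin f → ℕ} (ha : ∀ i, a i < p) :
    Function.Bijective (frob ι hq ha) := by
  have hinj : Function.Injective (frob ι hq ha) := fun φ ψ h => by
    refine Subtype.ext (funext fun v => frobenius_inj K p ?_)
    exact congrFun (congrArg Subtype.val h) v
  refine hinj.bijective_of_nat_card_le ?_
  rw [Module.natCard_eq_pow_finrank (K := K) (V := ↥(tp ι p f a)),
    Module.natCard_eq_pow_finrank (K := K) (V := ↥(tp ι p f (shift a))),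
    finrank_tp ι hq ha, finrank_tp ι hq (a := shift a) fun i => ha _, Fintype.card_pi,
    Fintype.card_pi]
  have h : ∏ i : Fin f, Fintype.card (Fin (shift a i + 1)) = ∏ i : Fin f, Fintype.card (Fin (a i + 1)) :=
    Fintype.prod_equiv (Equiv.subRight (1 : Fin f)) _ _ fun i => rfl
  rw [h]

variable {V : Type*} [AddCommGroup V] [Module K V]

omit hq in
/-- An equivariant map from a twisted product. -/
def IsMap (ρ : Representation K SL(2, F) V) (a : Fin f → ℕ) (ψ : tp ι p f a →ₗ[K] V) : Prop :=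
  ∀ g φ, ψ (tpRep ι a g φ) = ρ g (ψ φ)

theorem map_mem_span {ρ : Representation K SL(2, F) V} {a : Fin f → ℕ} (ha : ∀ i, a i < p)
    {ψ : tp ι p f a →ₗ[K] V} (hψ : IsMap ι ρ a ψ) {W : Submodule K V}
    (hW : ∀ g, ρ g (ψ (top ι a)) ∈ W) (φ : tp ι p f a) : ψ φ ∈ W := by
  let U : Submodule K (Fn F K) := (Submodule.span K
    (Set.range fun g => tpRep ι a g (top ι a))).map (tp ι p f a).subtype
  have hinv : ∀ g, ∀ x ∈ U, act g x ∈ U := by
    rintro g _ ⟨x, hx, rfl⟩
    refine ⟨tpRep ι a g x, ?_, rfl⟩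
    induction hx using Submodule.span_induction with
    | mem y hy =>
      obtain ⟨h, rfl⟩ := hy
      exact Submodule.subset_span ⟨g * h, by simp⟩
    | zero => simp
    | add y z _ _ hy hz => rw [map_add]; exact Submodule.add_mem _ hy hz
    | smul c y _ hy => rw [map_smul]; exact Submodule.smul_mem _ _ hy
  obtain ⟨x, hx, hxφ⟩ := top_generates ι hq ha hinv
    ⟨top ι a, Submodule.subset_span ⟨1, by simp⟩, rfl⟩ φ.2
  rw [← show x = φ from Subtype.ext hxφ]
  have h2 : Submodule.span K (Set.range fun g => tpRep ι a g (top ι a)) ≤ W.comap ψ := by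
    rw [Submodule.span_le]
    rintro _ ⟨g, rfl⟩
    show ψ (tpRep ι a g (top ι a)) ∈ W
    rw [hψ]
    exact hW g
  exact h2 hx

/-- The Galois twist of an equivariant map. -/
theorem exists_twist [Finite K] {ρ : Representation K SL(2, F) V} (σ : V →+ V)
    (hσ : ∀ (c : K) v, σ (c • v) = c ^ p • σ v) (hσρ : ∀ g v, σ (ρ g v) = ρ g (σ v))
    {a : Fin f → ℕ} (ha : ∀ i, a i < p) {ψ : tp ι p f a →ₗ[K] V} (hψ : IsMap ι ρ a ψ) :
    ∃ ψ' : tp ι p f (shift a) →ₗ[K] V, IsMap ι ρ (shift a) ψ' ∧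
      ψ' (top ι (shift a)) = σ (ψ (top ι a)) := by
  have hb := frob_bijective ι hq ha
  choose inv hinv using hb.2
  have hval : ∀ φ, σ (ψ (inv (frob ι hq ha φ))) = σ (ψ φ) := fun φ => by rw [hb.1 (hinv _)]
  refine ⟨{ toFun := fun φ' => σ (ψ (inv φ')), map_add' := fun x y => ?_, map_smul' := fun c x => ?_ },
    fun g φ => ?_, ?_⟩
  · obtain ⟨x, rfl⟩ := hb.2 x
    obtain ⟨y, rfl⟩ := hb.2 y
    rw [hval, hval, ← map_add, ← map_add, ← hval (x + y)]
    congr 3
    exact Subtype.ext (fn_add_pow x.1 y.1).symm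
  · obtain ⟨d, rfl⟩ := (Finite.injective_iff_surjective.1 (frobenius_inj K p)) c
    obtain ⟨x, rfl⟩ := hb.2 x
    rw [hval, RingHom.id_apply, frobenius_def, ← hσ, ← map_smul, ← hval (d • x)]
    congr 3
    exact Subtype.ext (_root_.smul_pow d x.1 p).symm
  · obtain ⟨φ, rfl⟩ := hb.2 φ
    show σ (ψ (inv _)) = ρ g (σ (ψ (inv _)))
    rw [hval, ← hσρ, ← hψ, ← hval (tpRep ι a g φ)]
    congr 3
  · show σ (ψ (inv _)) = _
    rw [← hval (top ι a)]
    congr 3
    exact Subtype.ext (cx_pow ι hq a).symm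

/-- A minimal invariant subspace gives an equivariant map. -/
theorem exists_map [FiniteDimensional K V] [Nontrivial V] (ρ : Representation K SL(2, F) V) :
    ∃ a : Fin f → ℕ, (∀ i, a i < p) ∧
      ∃ ψ : tp ι p f a →ₗ[K] V, IsMap ι ρ a ψ ∧ ψ (top ι a) ≠ 0 := by
  obtain ⟨W, ⟨hWinv, hW0⟩, hWmin⟩ := (wellFounded_lt (α := Submodule K V)).has_min
    {W | (∀ g, ∀ v ∈ W, ρ g v ∈ W) ∧ W ≠ ⊥} ⟨⊤, fun _ _ _ => trivial, top_ne_bot⟩
  haveI : Nontrivial W := Submodule.nontrivial_iff_ne_bot.2 hW0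
  let σ := ρ.subrepresentation W fun g v hv => hWinv g v hv
  obtain ⟨a, ha, Φ, hΦ⟩ := exists_equiv ι hq σ fun U hU hU0 => by
    by_contra hne
    refine hWmin (U.map W.subtype) ⟨?_, ?_⟩ ?_
    · rintro g _ ⟨v, hv, rfl⟩
      exact ⟨σ g v, hU g v hv, rfl⟩
    · rw [Ne, (Submodule.map_injective_of_injective (f := W.subtype) Subtype.val_injective).eq_iff'
        (Submodule.map_bot _)]
      exact hU0
    · refine lt_of_le_of_ne (Submodule.map_subtype_le _ _) fun h => hne ?_
      exact Submodule.map_injective_of_injective (f := W.subtype) Subtype.val_injective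
        (h.trans (Submodule.map_subtype_top W).symm)
  refine ⟨a, ha, W.subtype.comp Φ.symm.toLinearMap, fun g φ => ?_, fun h => ?_⟩
  · have h1 : Φ.symm (tpRep ι a g φ) = σ g (Φ.symm φ) := by
      rw [LinearEquiv.symm_apply_eq, hΦ, LinearEquiv.apply_symm_apply]
    show ((Φ.symm (tpRep ι a g φ) : W) : V) = _
    rw [h1]
    rfl
  · have h1 : Φ.symm (top ι a) = 0 := Subtype.ext h
    rw [LinearEquiv.map_eq_zero_iff] at h1
    simpa [top, cx] using congrFun (congrArg Subtype.val h1) ![1, 0]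

/-- An invariant subspace stable under the semilinear map with known characteristic polynomials. -/
theorem exists_block [Finite K] {N : ℕ} (hK : Nat.card K = p ^ N) (hfN : f ∣ N)
    [FiniteDimensional K V] [Nontrivial V] (ρ : Representation K SL(2, F) V) (σ : V →+ V)
    (hσ : ∀ (c : K) v, σ (c • v) = c ^ p • σ v) (hσρ : ∀ g v, σ (ρ g v) = ρ g (σ v))
    (hσN : ∀ v, σ^[N] v = v) :
    ∃ x : (Fin f → ℕ) × ℕ, IsOrbit p x ∧ (ρ (-1) = 1 → p ≠ 2 → Even (wsum p x.1)) ∧
      ∃ (U : Submodule K V) (hU : ∀ g, U ≤ U.comap (ρ g)), U ≠ ⊥ ∧ (∀ v ∈ U, σ v ∈ U) ∧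
        ∀ (g : SL(2, F)) (α β γ δ l l' : K), α * δ - β * γ ≠ 0 →
          act g (lin ι α β) = l • lin ι α β → act g (lin ι γ δ) = l' • lin ι γ δ →
          ((ρ g).restrict (hU g)).charpoly = orbPoly p l l' x := by
  classical
  haveI := Fintype.ofFinite K
  have hp := (Fact.out : p.Prime)
  obtain ⟨a, ha, ψ₀, hψ₀, hψ₀0⟩ := exists_map ι hq ρ
  obtain ⟨r, hx⟩ := exists_isOrbit ha
  have hrf := orbit_dvd hx
  obtain ⟨-, hr, -, hper, hmin⟩ := hx
  -- translates along the orbit
  have hiter : ∀ (i : ℕ) (ψ : tp ι p f a →ₗ[K] V), IsMap ι ρ a ψ →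
      ∃ ψ' : tp ι p f (shift^[i] a) →ₗ[K] V, IsMap ι ρ (shift^[i] a) ψ' ∧
        ψ' (top ι (shift^[i] a)) = σ^[i] (ψ (top ι a)) := by
    intro i ψ hψ
    induction i with
    | zero => exact ⟨ψ, hψ, rfl⟩
    | succ i ih =>
      obtain ⟨ψ', h1, h2⟩ := ih
      obtain ⟨ψ'', h3, h4⟩ := exists_twist ι hq σ hσ hσρ (shift_lt ha i) h1
      rw [h2] at h4
      rw [Function.iterate_succ_apply' σ]
      rw [← h4]
      clear h4 h2
      revert ψ''
      rw [← Function.iterate_succ_apply' shift]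
      exact fun ψ'' h3 => ⟨ψ'', h3, rfl⟩
  let P : Submodule K V :=
    { carrier := {v | ∃ ψ : tp ι p f a →ₗ[K] V, IsMap ι ρ a ψ ∧ ψ (top ι a) = v}
      zero_mem' := ⟨0, fun _ _ => by simp, rfl⟩
      add_mem' := by
        rintro _ _ ⟨ψ, hψ, rfl⟩ ⟨ψ', hψ', rfl⟩
        exact ⟨ψ + ψ', fun g φ => by simp [hψ g φ, hψ' g φ], rfl⟩
      smul_mem' := by
        rintro c _ ⟨ψ, hψ, rfl⟩
        exact ⟨c • ψ, fun g φ => by simp [hψ g φ], rfl⟩ }
  have hPr : ∀ v ∈ P, σ^[r] v ∈ P := by
    rintro _ ⟨ψ, hψ, rfl⟩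
    obtain ⟨ψ', h1, h2⟩ := hiter r ψ hψ
    revert ψ'
    rw [hper]
    exact fun ψ' h1 h2 => ⟨ψ', h1, h2⟩
  have hPk : ∀ k, ∀ v ∈ P, σ^[r * k] v ∈ P := fun k => by
    induction k with
    | zero => exact fun v hv => hv
    | succ k ih =>
      intro v hv
      rw [Nat.mul_succ, add_comm, Function.iterate_add_apply]
      exact hPr _ (ih v hv)
  -- a vector of the Galois descent
  obtain ⟨v, hvP, hv0, hvr⟩ : ∃ v ∈ P, v ≠ 0 ∧ σ^[r] v = v := by
    set v₀ := ψ₀ (top ι a)
    have hv₀ : v₀ ∈ P := ⟨ψ₀, hψ₀, rfl⟩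
    obtain ⟨M, hM⟩ := hrf.trans hfN
    have hN0 : 0 < N := Nat.pos_of_ne_zero fun h => by
      have := hK ▸ Finite.one_lt_card (α := K)
      simp [h] at this
    have hM0 : 0 < M := Nat.pos_of_ne_zero fun h => by simp [h] at hM; omega
    have hσk : ∀ (k : ℕ) (c : K) v, σ^[k] (c • v) = c ^ p ^ k • σ^[k] v := fun k => by
      induction k with
      | zero => simp
      | succ k ih =>
        intro c v
        rw [Function.iterate_succ_apply', ih, hσ, Function.iterate_succ_apply', ← pow_mul, pow_succ]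
    let w : K → V := fun c => ∑ k ∈ Finset.range M, σ^[r * k] (c • v₀)
    have hw : ∀ c, w c ∈ P ∧ σ^[r] (w c) = w c := fun c => by
      refine ⟨Submodule.sum_mem _ fun k _ => hPk k _ (P.smul_mem c hv₀), ?_⟩
      let σr : V →+ V := AddMonoidHom.mk' (σ^[r]) (iterate_map_add σ r)
      rw [show σ^[r] (w c) = σr (w c) from rfl, map_sum]
      have h1 : ∀ k, σr (σ^[r * k] (c • v₀)) = σ^[r * (k + 1)] (c • v₀) := fun k => by
        show σ^[r] _ = _
        rw [← Function.iterate_add_apply, Nat.mul_succ, add_comm]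
      simp only [h1, w]
      obtain ⟨M', rfl⟩ := Nat.exists_eq_succ_of_ne_zero hM0.ne'
      rw [Finset.sum_range_succ' (fun k => σ^[r * k] (c • v₀)), mul_zero,
        Finset.sum_range_succ (fun k => σ^[r * (k + 1)] (c • v₀)), ← hM, hσN]
      rfl
    by_contra hne
    push Not at hne
    have hall : ∀ c, w c = 0 := fun c => by
      by_contra h
      exact hne _ (hw c).1 h (hw c).2
    obtain ⟨L, hL, -⟩ := Submodule.exists_dual_map_eq_bot_of_notMem
      (p := (⊥ : Submodule K V)) (x := v₀) (by simpa using hψ₀0) inferInstance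
    refine hL ?_
    have h0 := coeff_zero_of_eval (RingHom.id K) (p := p) (f := N)
      (by rw [← Nat.card_eq_fintype_card, hK]) (fun k : Fin M => p ^ (r * (k : ℕ)))
      (fun i j h => Fin.ext (Nat.eq_of_mul_eq_mul_left hr (Nat.pow_right_injective hp.two_le h)))
      (fun k => Nat.pow_lt_pow_right hp.one_lt (by rw [hM]; exact Nat.mul_lt_mul_of_pos_left k.2 hr))
      (fun k => L (σ^[r * (k : ℕ)] v₀)) (fun c => ?_) ⟨0, hM0⟩
    · simpa using h0
    · have h2 := congrArg L (hall c)
      rw [map_zero, map_sum, ← Fin.sum_univ_eq_sum_range (fun k => L (σ^[r * k] (c • v₀)))] at h2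
      rw [← h2]
      refine Finset.sum_congr rfl fun k _ => ?_
      rw [hσk, map_smul, smul_eq_mul, RingHom.id_apply, mul_comm]
  obtain ⟨ψ, hψ, rfl⟩ := hvP
  choose Ψ hΨ hΨtop using fun i : Fin r => hiter i ψ hψ
  set vv : Fin r → V := fun i => σ^[(i : ℕ)] (ψ (top ι a)) with hvv
  have hvv0 : ∀ i, vv i ≠ 0 := fun i h => hv0 (by
    have h2 := congrArg (σ^[r - (i : ℕ)]) h
    rw [hvv] at h2
    simp only at h2
    rw [← Function.iterate_add_apply, Nat.sub_add_cancel i.2.le, hvr, iterate_map_zero] at h2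
    exact h2)
  let U : Submodule K V := Submodule.span K (Set.range fun x : SL(2, F) × Fin r => ρ x.1 (vv x.2))
  have hUinv : ∀ g, U ≤ U.comap (ρ g) := fun g => by
    rw [Submodule.span_le]
    rintro _ ⟨⟨h, i⟩, rfl⟩
    exact Submodule.subset_span ⟨(g * h, i), by simp⟩
  have hUσ : ∀ v ∈ U, σ v ∈ U := by
    intro v hv
    induction hv using Submodule.span_induction with
    | mem y hy =>
      obtain ⟨⟨h, i⟩, rfl⟩ := hy
      rw [hσρ, hvv]
      simp only
      rw [← Function.iterate_succ_apply' σ]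
      by_cases hi : (i : ℕ) + 1 < r
      · exact Submodule.subset_span ⟨(h, ⟨_, hi⟩), rfl⟩
      · refine Submodule.subset_span ⟨(h, ⟨0, hr⟩), ?_⟩
        rw [show (i : ℕ).succ = r by omega, hvr]
        rfl
    | zero => simp
    | add y z _ _ hy hz => rw [map_add]; exact Submodule.add_mem _ hy hz
    | smul c y _ hy => rw [hσ]; exact Submodule.smul_mem _ _ hy
  -- the sum map
  haveI : CharP F p := charP_base ι
  let ρP : Representation K SL(2, F) ((i : Fin r) → tp ι p f (shift^[(i : ℕ)] a)) :=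
    { toFun := fun g => LinearMap.pi fun i => (tpRep ι _ g).comp (LinearMap.proj i)
      map_one' := LinearMap.ext fun x => funext fun i => by simp
      map_mul' := fun g h => LinearMap.ext fun x => funext fun i => by simp }
  let S : ((i : Fin r) → tp ι p f (shift^[(i : ℕ)] a)) →ₗ[K] V :=
    ∑ i, (Ψ i).comp (LinearMap.proj i)
  have hS : ∀ x, S x = ∑ i, Ψ i (x i) := fun x => by simp [S]
  have hSρ : ∀ g x, S (ρP g x) = ρ g (S x) := fun g x => by
    rw [hS, hS, map_sum]
    exact Finset.sum_congr rfl fun i _ => hΨ i g (x i)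
  have hindep : LinearIndependent K vv := by
    by_cases hr1 : r = 1
    · subst hr1
      rw [linearIndependent_unique_iff]
      exact hvv0 _
    obtain ⟨c₀, hc₀⟩ := IsCyclic.exists_generator (α := Fˣ)
    refine Module.End.eigenvectors_linearIndependent' (ρ (dg c₀))
      (fun i : Fin r => ι (↑c₀⁻¹ : F) ^ wsum p (shift^[(i : ℕ)] a)) ?_ vv ?_
    · intro i j h
      have h0 : ∀ i : Fin r, wsum p (shift^[(i : ℕ)] a) ≠ 0 := by
        intro i h0
        refine hr1 ?_
        have hz : ∀ j, shift^[(i : ℕ)] a j = 0 := fun j => by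
          have := (Finset.sum_eq_zero_iff.1 h0) j (Finset.mem_univ _)
          simpa [hp.ne_zero] using this
        have ha0 : ∀ j, a j = 0 := fun j => by
          have := hz (j + Fin.ofNat f (i : ℕ))
          rwa [shift_iterate, add_sub_cancel_right] at this
        by_contra hr1
        exact hmin 1 (by omega) one_ne_zero (funext fun j => by simp [shift, ha0])
      simp only [← map_pow] at h
      have h2 : (c₀⁻¹) ^ wsum p (shift^[(i : ℕ)] a) = (c₀⁻¹) ^ wsum p (shift^[(j : ℕ)] a) :=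
        Units.ext (by simpa using ι.injective h)
      rw [pow_eq_pow_iff_modEq, orderOf_inv, orderOf_eq_card_of_forall_mem_zpowers hc₀,
        Nat.card_eq_fintype_card, Fintype.card_units, hq] at h2
      have hlt := fun i : Fin r => wsum_lt (p := p) (shift_lt ha (i : ℕ))
      have heq : wsum p (shift^[(i : ℕ)] a) = wsum p (shift^[(j : ℕ)] a) := by
        rcases le_total (wsum p (shift^[(i : ℕ)] a)) (wsum p (shift^[(j : ℕ)] a)) with hle | hle
        · obtain ⟨k, hk⟩ := (Nat.modEq_iff_dvd' hle).1 h2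
          have := hlt j
          have := h0 i
          rcases k with _ | k
          · omega
          · rw [Nat.mul_succ] at hk; omega
        · obtain ⟨k, hk⟩ := (Nat.modEq_iff_dvd' hle).1 h2.symm
          have := hlt i
          have := h0 j
          rcases k with _ | k
          · omega
          · rw [Nat.mul_succ] at hk; omega
      have heq' := wsum_inj (shift_lt ha _) (shift_lt ha _) heq
      have key : ∀ i j : Fin r, i < j → shift^[(i : ℕ)] a ≠ shift^[(j : ℕ)] a := by
        intro i j hij h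
        have hij' : (i : ℕ) < j := hij
        have h2 := congrArg (shift^[r - (j : ℕ)]) h
        rw [← Function.iterate_add_apply, ← Function.iterate_add_apply,
          show r - (j : ℕ) + j = r by omega, hper] at h2
        exact hmin _ (by omega) (by omega) h2
      rcases lt_trichotomy i j with h | h | h
      · exact absurd heq' (key i j h)
      · exact h
      · exact absurd heq'.symm (key j i h)
    · intro i
      refine ⟨Module.End.mem_eigenspace_iff.2 ?_, hvv0 i⟩
      rw [hvv]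
      simp only
      rw [← hΨtop i, ← hΨ i, ← map_smul]
      congr 1
      exact Subtype.ext (act_dg_cx ι c₀ _)
  have hSinj : Function.Injective S := by
    rw [← LinearMap.ker_eq_bot]
    by_contra hne
    obtain ⟨x, hx, hx0, hxfix⟩ := exists_fixed ρP (LinearMap.ker S) (fun g x hx => by
      rw [LinearMap.mem_ker] at hx ⊢
      rw [hSρ, hx, map_zero]) hne
    choose d hd using fun i => (⟨_, fixed_tp ι hq (shift_lt ha _) (x i).2 fun t =>
      congrArg Subtype.val (congrFun (hxfix t) i)⟩ : ∃ d : K, (x i).1 = d • cx ι ^ wsum p (shift^[(i : ℕ)] a))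
    have hxi : ∀ i, x i = d i • top ι (shift^[(i : ℕ)] a) := fun i => Subtype.ext (hd i)
    have hsum : ∑ i, d i • vv i = 0 := by
      rw [← LinearMap.mem_ker.1 hx, hS]
      exact Finset.sum_congr rfl fun i _ => by rw [hxi i, map_smul, hΨtop]
    refine hx0 (funext fun i => ?_)
    rw [hxi i, Fintype.linearIndependent_iff.1 hindep d hsum i, zero_smul]
    rfl
  have hrange : LinearMap.range S = U := by
    refine le_antisymm ?_ ?_
    · rintro _ ⟨x, rfl⟩
      rw [hS]
      refine Submodule.sum_mem _ fun i _ => map_mem_span ι hq (shift_lt ha _) (hΨ i) (fun g => ?_) _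
      exact Submodule.subset_span ⟨(g, i), by rw [hΨtop]⟩
    · rw [Submodule.span_le]
      rintro _ ⟨⟨g, i⟩, rfl⟩
      refine ⟨Pi.single i (tpRep ι _ g (top ι _)), ?_⟩
      rw [hS, Finset.sum_eq_single i (fun j _ hj => by rw [Pi.single_eq_of_ne hj, map_zero])
        (by simp), Pi.single_eq_same, hΨ, hΨtop]
  refine ⟨(a, r), ⟨ha, hr, Nat.le_of_dvd (NeZero.pos f) hrf, hper, hmin⟩, ?_, U, hUinv, ?_, hUσ,
    fun g α β γ δ l l' hd h1 h2 => ?_⟩
  · intro hneg hp2
    by_contra hodd
    rw [Nat.not_even_iff_odd] at hodd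
    have h1 : tpRep ι a (-1) (top ι a) = (-1 : K) • top ι a := by
      refine Subtype.ext (funext fun w => ?_)
      show (cx ι ^ wsum p a) (w ᵥ* (-1 : SL(2, F)).1) = _
      simp [Matrix.vecMul_neg, cx, top, hodd.neg_pow]
    have h2 := hψ (-1) (top ι a)
    rw [hneg, h1, map_smul, Module.End.one_apply, neg_one_smul, neg_eq_iff_add_eq_zero,
      ← two_smul K, smul_eq_zero] at h2
    rcases h2 with h2 | h2
    · have h3 : ((2 : ℕ) : K) = 0 := by exact_mod_cast h2
      exact hp2 ((Nat.prime_dvd_prime_iff_eq hp Nat.prime_two).1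
        ((CharP.cast_eq_zero_iff K p 2).1 h3))
    · exact hv0 h2
  · rw [Submodule.ne_bot_iff]
    exact ⟨vv ⟨0, hr⟩, Submodule.subset_span ⟨(1, ⟨0, hr⟩), by simp⟩, hvv0 _⟩
  choose b hb using fun i : Fin r => exists_eigenbasis ι hq (shift_lt ha (i : ℕ)) g hd h1 h2
  let T : ((i : Fin r) → tp ι p f (shift^[(i : ℕ)] a)) ≃ₗ[K] U :=
    (LinearEquiv.ofInjective S hSinj).trans (LinearEquiv.ofEq _ _ hrange)
  have hconj : T.conj (ρP g) = (ρ g).restrict (hUinv g) := by
    refine LinearMap.ext fun u => ?_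
    obtain ⟨x, rfl⟩ := T.surjective u
    rw [LinearEquiv.conj_apply_apply, LinearEquiv.symm_apply_apply]
    exact Subtype.ext (hSρ g x)
  rw [← hconj, LinearEquiv.charpoly_conj, ← LinearMap.charpoly_toMatrix _ (Pi.basis b)]
  rw [show LinearMap.toMatrix (Pi.basis b) (Pi.basis b) (ρP g) = Matrix.diagonal
    fun x : (i : Fin r) × Ix (shift^[(i : ℕ)] a) => l ^ wsum p (fun j => (x.2 j : ℕ)) *
      l' ^ wsum p (fun j => shift^[(x.1 : ℕ)] a j - (x.2 j : ℕ)) from ?_]
  · rw [Matrix.charpoly_diagonal, Fintype.prod_sigma]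
    rfl
  ext x y
  rw [LinearMap.toMatrix_apply]
  have he : ρP g (Pi.basis b y) = (l ^ wsum p (fun j => (y.2 j : ℕ)) *
      l' ^ wsum p (fun j => shift^[(y.1 : ℕ)] a j - (y.2 j : ℕ))) • Pi.basis b y := by
    obtain ⟨i, e⟩ := y
    funext j
    rw [Pi.basis_apply]
    show tpRep ι _ g
      ((Pi.single i (b i e) : (i : Fin r) → tp ι p f (shift^[(i : ℕ)] a)) j) = _
    by_cases hij : j = i
    · subst hij
      rw [Pi.smul_apply, Pi.single_eq_same]
      exact hb j e
    · rw [Pi.smul_apply, Pi.single_eq_of_ne hij, map_zero, smul_zero]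
  rw [he, map_smul, Finsupp.smul_apply, Basis.repr_self, Matrix.diagonal_apply,
    Finsupp.single_apply]
  by_cases h : x = y
  · subst h; simp
  · simp [h, Ne.symm h]

/-- Characteristic polynomials of a module with a semilinear map. -/
theorem charpoly_eq [Finite K] {N : ℕ} (hK : Nat.card K = p ^ N) (hfN : f ∣ N) (hp2 : p ≠ 2)
    {W : Type*} [AddCommGroup W] [Module K W] [FiniteDimensional K W]
    (ρ : Representation K SL(2, F) W) (σ : W →+ W) (hneg : ρ (-1) = 1)
    (hσ : ∀ (c : K) v, σ (c • v) = c ^ p • σ v) (hσρ : ∀ g v, σ (ρ g v) = ρ g (σ v))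
    (hσN : ∀ v, σ^[N] v = v) :
    ∃ L : List ((Fin f → ℕ) × ℕ), (∀ x ∈ L, IsOrbit p x ∧ Even (wsum p x.1)) ∧
      ∀ (g : SL(2, F)) (α β γ δ l l' : K), α * δ - β * γ ≠ 0 →
          act g (lin ι α β) = l • lin ι α β → act g (lin ι γ δ) = l' • lin ι γ δ →
          (ρ g).charpoly = (L.map (orbPoly p l l')).prod := by
  induction hn : finrank K W using Nat.strong_induction_on generalizing W with
  | _ n ih =>
    rcases subsingleton_or_nontrivial W with hW | hW
    · refine ⟨[], by simp, fun g α β γ δ l l' _ _ _ => ?_⟩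
      exact eq_one_of_monic_natDegree_zero (LinearMap.charpoly_monic _)
        (by rw [LinearMap.charpoly_natDegree, finrank_zero_of_subsingleton])
    obtain ⟨x, hx, hxe, U, hU, hU0, hUσ, hchar⟩ := exists_block ι hq hK hfN ρ σ hσ hσρ hσN
    let ρQ := ρ.quotient U hU
    have hlt : finrank K (W ⧸ U) < n := by
      have h1 := U.finrank_quotient_add_finrank
      have h2 := Submodule.one_le_finrank_iff.2 hU0
      omega
    let σQ : W ⧸ U →+ W ⧸ U :=
      QuotientAddGroup.map U.toAddSubgroup U.toAddSubgroup σ hUσ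
    have hσQ : ∀ v, σQ (Submodule.Quotient.mk v) = Submodule.Quotient.mk (σ v) := fun v => rfl
    obtain ⟨L, hL, hLchar⟩ := ih _ hlt ρQ σQ (by
        refine LinearMap.ext fun q => ?_
        obtain ⟨v, rfl⟩ := U.mkQ_surjective q
        show U.mapQ U (ρ (-1)) (hU _) (U.mkQ v) = _
        rw [Submodule.mkQ_apply, Submodule.mapQ_apply, hneg]
        rfl)
      (fun c q => by
        obtain ⟨v, rfl⟩ := U.mkQ_surjective q
        rw [Submodule.mkQ_apply, ← Submodule.Quotient.mk_smul, hσQ, hσQ, hσ,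
          Submodule.Quotient.mk_smul])
      (fun g q => by
        obtain ⟨v, rfl⟩ := U.mkQ_surjective q
        show σQ (Submodule.Quotient.mk (ρ g v)) = U.mapQ U (ρ g) (hU g) (σQ (U.mkQ v))
        rw [hσQ, Submodule.mkQ_apply, hσQ, Submodule.mapQ_apply, hσρ])
      (fun q => by
        obtain ⟨v, rfl⟩ := U.mkQ_surjective q
        have h : ∀ k, σQ^[k] (U.mkQ v) = U.mkQ (σ^[k] v) := fun k => by
          induction k with
          | zero => rfl
          | succ k ih => rw [Function.iterate_succ_apply', ih, Function.iterate_succ_apply']; rfl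
        rw [h, hσN]) rfl
    refine ⟨x :: L, ?_, fun g α β γ δ l l' hd h1 h2 => ?_⟩
    · intro y hy
      rcases List.mem_cons.1 hy with rfl | hy
      · exact ⟨hx, hxe hneg hp2⟩
      · exact hL y hy
    · rw [Cfsg.Lib.Linear.IsoFix.charpoly_split (ρ g) U (hU g), hchar g α β γ δ l l' hd h1 h2,
        List.map_cons, List.prod_cons, ← hLchar g α β γ δ l l' hd h1 h2]
      rfl

end Cfsg.Lib.Linear.TwistPower
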