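import Cfsg.Agent.Lib.Linear.TwistPower.Basic

/-!
# The simple modules of `SL₂` in defining characteristic

Every simple module over a field containing the finite field is a twisted product of symmetric
powers of the natural module.
-/

set_option autoImplicit false
set_option linter.unusedSectionVars false

namespace Cfsg.Lib.Linear.TwistPower

open Matrix Module
open scoped MatrixGroups

section Elements

variable {F : Type*} [Field F]

/-- The upper unitriangular element. -/
def up (t : F) : SL(2, F) := ⟨!![1, t; 0, 1], by simp [Matrix.det_fin_two_of]⟩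

/-- The diagonal element scaling the second row by `c`. -/
def dg (c : Fˣ) : SL(2, F) :=
  ⟨!![(↑c⁻¹ : F), 0; 0, (c : F)], by simp [Matrix.det_fin_two_of]⟩

/-- The Weyl element. -/
def weyl : SL(2, F) := ⟨!![0, 1; -1, 0], by simp [Matrix.det_fin_two_of]⟩

theorem up_add (t s : F) : up (t + s) = up t * up s := by
  ext i j
  rw [Matrix.SpecialLinearGroup.coe_mul]
  fin_cases i <;> fin_cases j <;> simp [up, add_comm]

theorem up_zero : up (0 : F) = 1 := by
  ext i j
  fin_cases i <;> fin_cases j <;> simp [up]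

theorem up_pow (t : F) : ∀ n : ℕ, up t ^ n = up (n * t)
  | 0 => by simp [up_zero]
  | n + 1 => by rw [pow_succ, up_pow t n, ← up_add]; push_cast; ring_nf

theorem dg_mul (c d : Fˣ) : dg (c * d) = dg c * dg d := by
  ext i j
  rw [Matrix.SpecialLinearGroup.coe_mul]
  fin_cases i <;> fin_cases j <;> simp [dg, mul_comm]

theorem dg_one : dg (1 : Fˣ) = 1 := by
  ext i j
  fin_cases i <;> fin_cases j <;> simp [dg]

/-- The diagonal elements as a homomorphism. -/
def dgHom : Fˣ →* SL(2, F) where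
  toFun := dg
  map_one' := dg_one
  map_mul' := dg_mul

theorem up_mul_dg (t : F) (c : Fˣ) : up t * dg c = dg c * up ((c : F) ^ 2 * t) := by
  ext i j
  rw [Matrix.SpecialLinearGroup.coe_mul, Matrix.SpecialLinearGroup.coe_mul]
  fin_cases i <;> fin_cases j <;> simp [dg, up]
  field_simp

theorem vecMul_two (w : Fin 2 → F) (A : Matrix (Fin 2) (Fin 2) F) :
    w ᵥ* A = ![w 0 * A 0 0 + w 1 * A 1 0, w 0 * A 0 1 + w 1 * A 1 1] := by
  funext j
  fin_cases j <;> simp [Matrix.vecMul, dotProduct, Fin.sum_univ_two]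

theorem vecMul_up (w : Fin 2 → F) (t : F) : w ᵥ* (up t).1 = ![w 0, w 0 * t + w 1] := by
  rw [vecMul_two]
  simp [up]

theorem vecMul_dg (w : Fin 2 → F) (c : Fˣ) :
    w ᵥ* (dg c).1 = ![w 0 * (↑c⁻¹ : F), w 1 * (c : F)] := by
  rw [vecMul_two]
  simp [dg]

theorem vecMul_weyl (w : Fin 2 → F) : w ᵥ* (weyl (F := F)).1 = ![-w 1, w 0] := by
  rw [vecMul_two]
  simp [weyl]

/-- An element with given second row. -/
theorem exists_row {w : Fin 2 → F} (hw : w ≠ 0) : ∃ g : SL(2, F), g.1 1 = w := by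
  by_cases h : w 0 = 0
  · have h1 : w 1 ≠ 0 := fun h1 => hw (funext fun j => by fin_cases j <;> simpa)
    refine ⟨⟨!![(w 1)⁻¹, 0; 0, w 1], by simp [Matrix.det_fin_two_of, h1]⟩, ?_⟩
    funext j
    fin_cases j <;> simp [h]
  · refine ⟨⟨!![0, -(w 0)⁻¹; w 0, w 1], by simp [Matrix.det_fin_two_of, h]⟩, ?_⟩
    funext j
    fin_cases j <;> simp

/-- Two elements with the same second row differ by a unitriangular one. -/
theorem exists_up_mul {g g' : SL(2, F)} (h : g.1 1 = g'.1 1) : ∃ t, g' = up t * g := by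
  refine ⟨(g' * g⁻¹).1 0 1, ?_⟩
  rw [← mul_inv_eq_iff_eq_mul]
  have hr : ∀ j, (g' * g⁻¹).1 1 j = (1 : Matrix (Fin 2) (Fin 2) F) 1 j := fun j => by
    have h1 : (g * g⁻¹).1 1 j = (1 : Matrix (Fin 2) (Fin 2) F) 1 j := by rw [mul_inv_cancel]; rfl
    rw [← h1, Matrix.SpecialLinearGroup.coe_mul, Matrix.SpecialLinearGroup.coe_mul,
      Matrix.mul_apply, Matrix.mul_apply, h]
  have hd := (g' * g⁻¹).2
  rw [Matrix.det_fin_two] at hd
  have h10 := hr 0
  have h11 := hr 1
  simp only [Matrix.one_apply_ne (show (1 : Fin 2) ≠ 0 by decide), Matrix.one_apply_eq] at h10 h11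
  rw [h10, h11, mul_one, mul_zero, sub_zero] at hd
  ext i j
  fin_cases i <;> fin_cases j
  · simpa [up] using hd
  · simp [up]
  · simpa [up] using h10
  · simpa [up] using h11

end Elements

variable {F : Type*} [Field F] [Fintype F] {K : Type*} [Field K] (ι : F →+* K) {p f : ℕ}
  [Fact p.Prime] [CharP K p]

/-- Homogeneity of a given degree. -/
def Hom' (m : ℕ) (φ : Fn F K) : Prop := ∀ (c : F) w, φ (c • w) = ι c ^ m * φ w

/-- The twisted product as a representation. -/
noncomputable def tpRep (a : Fin f → ℕ) : Representation K SL(2, F) (tp ι p f a) where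
  toFun := tpOp ι a
  map_one' := LinearMap.ext fun φ => Subtype.ext (act_one φ.1)
  map_mul' g h := LinearMap.ext fun φ => Subtype.ext (act_mul g h φ.1)

theorem tpRep_apply (a : Fin f → ℕ) (g : SL(2, F)) (φ : tp ι p f a) :
    (tpRep ι a g φ : Fn F K) = act g φ.1 := rfl

/-- The highest vector. -/
def top (a : Fin f → ℕ) : tp ι p f a := ⟨cx ι ^ wsum p a, top_mem ι a⟩

omit [Fact p.Prime] [CharP K p] in
theorem act_up_cx (t : F) (n : ℕ) : act (up t) (cx ι ^ n) = cx ι ^ n := by
  funext w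
  rw [act_apply, vecMul_up]
  simp [cx]

omit [Fact p.Prime] [CharP K p] in
theorem act_dg_cx (c : Fˣ) (n : ℕ) :
    act (dg c) (cx ι ^ n) = (ι (↑c⁻¹ : F) ^ n) • cx ι ^ n := by
  funext w
  rw [act_apply, vecMul_dg]
  simp [cx, mul_pow, mul_comm]

theorem hom_tp {a : Fin f → ℕ} {φ : Fn F K} (h : φ ∈ tp ι p f a) : Hom' ι (wsum p a) φ := by
  intro c w
  rw [tp_eq] at h
  induction h using Submodule.span_induction with
  | mem x hx =>
    obtain ⟨e, rfl⟩ := hx
    simp only [mon, Pi.mul_apply, Pi.pow_apply, cx, cy, Pi.smul_apply, smul_eq_mul, map_mul,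
      mul_pow]
    rw [← wsum_add e, pow_add]
    ring
  | zero => simp
  | add x y _ _ hx hy => simp [hx, hy, mul_add]
  | smul d x _ hx => simp [hx]; ring

open scoped Classical in
/-- The values of a homogeneous fixed function. -/
theorem fixed_apply {m : ℕ} {φ : Fn F K} (hh : Hom' ι m φ)
    (hfix : ∀ t, act (up t) φ = φ) (w : Fin 2 → F) :
    φ w = if w 0 = 0 then ι (w 1) ^ m * φ ![0, 1] else ι (w 0) ^ m * φ ![1, 0] := by
  split_ifs with h
  · rw [← hh]
    congr 1
    funext j
    fin_cases j <;> simp [h]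
  · conv_lhs =>
      rw [show w = (w 0 • ![1, 0]) ᵥ* (up (w 1 / w 0)).1 from by
        funext j
        rw [vecMul_up]
        fin_cases j <;> simp [mul_div_cancel₀ _ h]]
    rw [← act_apply (up (w 1 / w 0)) φ, hfix, hh]

variable (hq : Fintype.card F = p ^ f)

include ι in
theorem charP_base : CharP F p := ι.charP ι.injective p

include hq

omit hq in
/-- Fixed vectors of the unitriangular group. -/
theorem exists_fixed [CharP F p] {V : Type*} [AddCommGroup V] [Module K V]
    (ρ : Representation K SL(2, F) V) (W : Submodule K V)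
    (hW : ∀ g, ∀ v ∈ W, ρ g v ∈ W) (hne : W ≠ ⊥) :
    ∃ v ∈ W, v ≠ 0 ∧ ∀ t, ρ (up t) v = v := by
  classical
  obtain ⟨v₀, hv₀, hv₀0⟩ := (Submodule.ne_bot_iff W).1 hne
  haveI : Nontrivial V := ⟨⟨v₀, 0, hv₀0⟩⟩
  haveI : CharP (Module.End K V) p :=
    charP_of_injective_algebraMap (algebraMap K (Module.End K V)).injective p
  suffices h : ∀ s : Finset F, ∃ v ∈ W, v ≠ 0 ∧ ∀ t ∈ s, ρ (up t) v = v by
    obtain ⟨v, hv, h0, h1⟩ := h Finset.univ
    exact ⟨v, hv, h0, fun t => h1 t (Finset.mem_univ t)⟩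
  intro s
  induction s using Finset.induction_on with
  | empty => exact ⟨v₀, hv₀, hv₀0, by simp⟩
  | insert t₀ s _ ih =>
    obtain ⟨v, hv, h0, hs⟩ := ih
    let N : Module.End K V := ρ (up t₀) - 1
    have hNp : N ^ p = 0 := by
      show (ρ (up t₀) - 1) ^ p = 0
      rw [sub_pow_char_of_commute p (Commute.one_right _), ← map_pow, up_pow, CharP.cast_eq_zero,
        zero_mul, up_zero, map_one, one_pow, sub_self]
    have hk : ∀ k, (N ^ k) v ∈ W ∧ ∀ t ∈ s, ρ (up t) ((N ^ k) v) = (N ^ k) v := by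
      intro k
      induction k with
      | zero => exact ⟨hv, hs⟩
      | succ k ih =>
        rw [pow_succ', Module.End.mul_apply]
        refine ⟨W.sub_mem (hW _ _ ih.1) ih.1, fun t ht => ?_⟩
        simp only [N, LinearMap.sub_apply, Module.End.one_apply, map_sub, ih.2 t ht]
        rw [← Module.End.mul_apply, ← map_mul, ← up_add, add_comm, up_add, map_mul,
          Module.End.mul_apply, ih.2 t ht]
    have hex : ∃ k, (N ^ k) v = 0 := ⟨p, by rw [hNp]; rfl⟩
    obtain ⟨k, hk1, hk2⟩ : ∃ k, (N ^ k) v ≠ 0 ∧ (N ^ (k + 1)) v = 0 := by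
      obtain ⟨k, hk'⟩ := Nat.exists_eq_succ_of_ne_zero (n := Nat.find hex) (fun h => h0 (by
        simpa [h] using Nat.find_spec hex))
      exact ⟨k, Nat.find_min hex (by omega), by
        have := Nat.find_spec hex; rwa [hk'] at this⟩
    refine ⟨_, (hk k).1, hk1, fun t ht => ?_⟩
    rcases Finset.mem_insert.1 ht with rfl | ht
    · rw [pow_succ', Module.End.mul_apply] at hk2
      simpa [N, sub_eq_zero] using hk2
    · exact (hk k).2 t ht

theorem sum_pow_eq {m : ℕ} (hm0 : m ≠ 0) (hm : m ≤ p ^ f - 1) :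
    ∑ s : F, ι s ^ m = if m = p ^ f - 1 then -1 else 0 := by
  haveI := charP_base (p := p) ι
  split_ifs with h
  · classical
    have h1 : ∀ s : F, ι s ^ m = if s = 0 then 0 else 1 := by
      intro s
      split_ifs with hs
      · simp [hs, hm0]
      · rw [← map_pow, h, ← hq, FiniteField.pow_card_sub_one_eq_one s hs, map_one]
    simp only [h1]
    rw [Finset.sum_ite, Finset.sum_const_zero, zero_add, Finset.sum_const, nsmul_one,
      Finset.filter_ne', Finset.card_erase_of_mem (Finset.mem_univ _), Finset.card_univ, hq,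
      Nat.cast_sub (Nat.one_le_pow _ _ (Fact.out : p.Prime).pos), Nat.cast_pow,
      CharP.cast_eq_zero, zero_pow, Nat.cast_one, zero_sub]
    rintro rfl
    exact hm0 (by simpa using h)
  · rw [show (∑ s : F, ι s ^ m) = ι (∑ s : F, s ^ m) by simp,
      FiniteField.sum_pow_lt_card_sub_one _ m (by rw [hq]; omega), map_zero]

/-- The sum of the translates of a fixed function. -/
theorem sum_weyl {m : ℕ} (hm0 : m ≠ 0) (hm : m ≤ p ^ f - 1) {φ : Fn F K} (hh : Hom' ι m φ)
    (hfix : ∀ t, act (up t) φ = φ) :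
    ∑ t : F, act (up t) (act weyl φ) =
      ((if m = p ^ f - 1 then -φ ![1, 0] else 0) + φ ![0, 1]) • cx ι ^ m := by
  classical
  haveI := charP_base (p := p) ι
  funext w
  simp only [Finset.sum_apply, act_apply, Pi.smul_apply, Pi.pow_apply, cx, smul_eq_mul]
  have hv : ∀ t : F, w ᵥ* (up t).1 ᵥ* (weyl (F := F)).1 = ![-(w 0 * t + w 1), w 0] := fun t => by
    rw [vecMul_weyl, vecMul_up]
    simp
  simp only [hv]
  by_cases hw : w 0 = 0
  · simp only [hw, zero_mul, zero_add, map_zero, zero_pow hm0, mul_zero, Finset.sum_const,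
      Finset.card_univ, hq, nsmul_eq_mul, Nat.cast_pow, CharP.cast_eq_zero K p]
    rw [zero_pow, zero_mul]
    rintro rfl
    exact hm0 (by simpa using hm)
  have hb : Function.Bijective fun t : F => -(w 0 * t + w 1) :=
    Finite.injective_iff_bijective.1 fun s t h => mul_left_cancel₀ hw (by simpa using h)
  rw [Fintype.sum_bijective _ hb (fun t => φ ![-(w 0 * t + w 1), w 0]) (fun s => φ ![s, w 0])
    fun t => rfl]
  have h1 : ∀ s : F, φ ![s, w 0] =
      ι s ^ m * φ ![1, 0] + if s = 0 then ι (w 0) ^ m * φ ![0, 1] else 0 := by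
    intro s
    rw [fixed_apply ι hh hfix]
    by_cases hs : s = 0 <;> simp [hs, hm0]
  rw [Finset.sum_congr rfl fun s _ => h1 s, Finset.sum_add_distrib, ← Finset.sum_mul,
    sum_pow_eq ι hq hm0 hm, Finset.sum_ite_eq' Finset.univ (0 : F), if_pos (Finset.mem_univ _)]
  split_ifs with h
  · have h2 : ι (w 0) ^ m = 1 := by
      rw [← map_pow, h, ← hq, FiniteField.pow_card_sub_one_eq_one _ hw, map_one]
    rw [h2]
    ring
  · ring

/-- The only fixed line of a twisted product. -/
theorem fixed_tp {a : Fin f → ℕ} (ha : ∀ i, a i < p) {φ : Fn F K} (hφ : φ ∈ tp ι p f a)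
    (hfix : ∀ t, act (up t) φ = φ) : φ = φ ![1, 0] • cx ι ^ wsum p a := by
  classical
  set m := wsum p a with hm
  have hval := fixed_apply ι (hom_tp ι hφ) hfix
  rcases Nat.eq_zero_or_pos m with hm0 | hm0
  · obtain ⟨d, hd⟩ : ∃ d : K, φ = d • cx ι ^ m := by
      rw [tp_eq] at hφ
      have h1 : ∀ e : Ix a, mon p (cx ι) (cy ι) a e = cx ι ^ m := fun e => by
        have h2 := wsum_add (p := p) e
        rw [← hm, hm0] at h2
        simp [mon, Nat.add_eq_zero_iff.1 h2, hm0]
      rw [show Set.range (mon p (cx ι) (cy ι) a) = {cx ι ^ m} from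
        Set.eq_singleton_iff_unique_mem.2 ⟨⟨fun i => ⟨0, by omega⟩, h1 _⟩, by rintro _ ⟨e, rfl⟩; exact h1 e⟩,
        Submodule.mem_span_singleton] at hφ
      exact ⟨hφ.choose, hφ.choose_spec.symm⟩
    conv_rhs => rw [hd]
    simp [hd, hm0]
  set ψ := φ - φ ![1, 0] • cx ι ^ m with hψ
  have hψmem : ψ ∈ tp ι p f a := Submodule.sub_mem _ hφ (Submodule.smul_mem _ _ (top_mem ι a))
  have hψv : ∀ w : Fin 2 → F, w 0 ≠ 0 → ψ w = 0 := fun w hw => by
    rw [hψ, Pi.sub_apply, hval w, if_neg hw]
    simp [cx, mul_comm, hm]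
  rw [tp_eq, Submodule.mem_span_range_iff_exists_fun] at hψmem
  obtain ⟨c, hc⟩ := hψmem
  let et : Ix a := fun i => ⟨a i, by omega⟩
  let N : Ix a → ℕ := fun e => wsum p fun i => (e i : ℕ)
  have hinj : Function.Injective N := fun e e' h => by
    funext i
    exact Fin.ext (congrFun (wsum_inj (Ix.lt ha e) (Ix.lt ha e') h) i)
  have hmq : m < p ^ f := wsum_lt ha
  have hle : ∀ e, N e ≤ m := fun e => by
    have h := wsum_add (p := p) e
    show wsum p (fun i => (e i : ℕ)) ≤ m
    omega
  have htop : N et = m := rfl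
  have hct : c et = 0 := by
    have h := congrFun hc ![1, 0]
    rw [hψv _ (by simp), Finset.sum_apply, Finset.sum_eq_single et] at h
    · simpa [mon, et, cx, cy, wsum] using h
    · intro e _ he
      have h2 := wsum_add (p := p) e
      have h3 : N e ≠ m := fun h => he (hinj (h.trans htop.symm))
      have h4 : wsum p (fun i => a i - (e i : ℕ)) ≠ 0 := by
        intro h4
        rw [h4, add_zero] at h2
        exact h3 h2
      simp [mon, cx, cy, zero_pow h4]
    · simp
  have hc0 : ∀ e, c e = 0 := by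
    intro e
    by_cases he : e = et
    · rw [he, hct]
    refine coeff_zero_of_eval ι hq (fun e => if e = et then 0 else N e + 1) ?_ ?_ c (fun t => ?_) e
    · intro e e' h
      by_cases he : e = et <;> by_cases he' : e' = et <;> simp [he, he'] at h ⊢
      exact hinj h
    · intro e
      split_ifs with he
      · omega
      · have h1 := hle e
        have h2 : N e ≠ m := fun h => he (hinj (h.trans htop.symm))
        omega
    · by_cases ht : t = 0
      · subst ht
        refine Finset.sum_eq_zero fun e _ => ?_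
        by_cases he : e = et
        · simp [he, hct]
        · simp [he]
      · have h := congrFun hc ![t, 1]
        rw [hψv _ (by simpa using ht), Finset.sum_apply] at h
        have h' : ι t * ∑ e, c e * ι t ^ N e = 0 := by
          simp only [Pi.smul_apply, smul_eq_mul, mon, Pi.mul_apply, Pi.pow_apply, cx, cy,
            Matrix.cons_val_zero, Matrix.cons_val_one, map_one, one_pow, mul_one] at h
          rw [h, mul_zero]
        rw [← h', Finset.mul_sum]
        refine Finset.sum_congr rfl fun e _ => ?_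
        by_cases he : e = et
        · simp [he, hct]
        · simp [he, pow_succ]; ring
  have : ψ = 0 := by simp [← hc, hc0]
  exact sub_eq_zero.1 this

/-- A simple module is a twisted product. -/
theorem exists_equiv {V : Type*} [AddCommGroup V] [Module K V] [FiniteDimensional K V]
    [Nontrivial V] (ρ : Representation K SL(2, F) V)
    (hirr : ∀ W : Submodule K V, (∀ g, ∀ v ∈ W, ρ g v ∈ W) → W ≠ ⊥ → W = ⊤) :
    ∃ a : Fin f → ℕ, (∀ i, a i < p) ∧
      ∃ Φ : V ≃ₗ[K] tp ι p f a, ∀ g v, Φ (ρ g v) = tpRep ι a g (Φ v) := by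
  classical
  haveI := charP_base (p := p) ι
  have hcard := Fintype.card_units (α := F)
  rw [hq] at hcard
  -- a functional fixed by the unitriangular group and an eigenvector of the diagonal one
  obtain ⟨φ₀, -, hφ₀, hφ₀fix⟩ := exists_fixed ρ.dual ⊤ (fun _ _ _ => trivial) top_ne_bot
  let D : Submodule K (Module.Dual K V) :=
    { carrier := {φ | ∀ t v, φ (ρ (up t) v) = φ v}
      zero_mem' := fun _ _ => rfl
      add_mem' := fun ha hb t v => by simp [ha t v, hb t v]
      smul_mem' := fun c φ ha t v => by simp [ha t v] }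
  have hD : φ₀ ∈ D := fun t v => by
    conv_rhs => rw [← hφ₀fix (-t)]
    rw [Representation.dual_apply, Module.Dual.transpose_apply, LinearMap.comp_apply]
    congr 3
    rw [eq_comm, inv_eq_iff_mul_eq_one, ← up_add, neg_add_cancel, up_zero]
  obtain ⟨c₀, hc₀⟩ := IsCyclic.exists_generator (α := Fˣ)
  let P : Module.End K (Module.Dual K V) :=
    { toFun := fun φ => φ.comp (ρ (dg c₀))
      map_add' := fun _ _ => LinearMap.add_comp _ _ _
      map_smul' := fun _ _ => LinearMap.smul_comp _ _ _ }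
  have hPD : ∀ φ ∈ D, P φ ∈ D := fun φ hφ t v => by
    show φ (ρ (dg c₀) (ρ (up t) v)) = φ (ρ (dg c₀) v)
    have h := up_mul_dg (t / (c₀ : F) ^ 2) c₀
    rw [mul_div_cancel₀ _ (pow_ne_zero 2 c₀.ne_zero)] at h
    rw [← Module.End.mul_apply, ← map_mul, ← h, map_mul, Module.End.mul_apply, hφ]
  have hPpow : ∀ k φ v, (P ^ k) φ v = φ (ρ (dg (c₀ ^ k)) v) := by
    intro k
    induction k with
    | zero => simp [dg_one]
    | succ k ih =>
      intro φ v
      rw [pow_succ, Module.End.mul_apply, ih, pow_succ', dg_mul, map_mul, Module.End.mul_apply]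
      rfl
  obtain ⟨c₁, φ, hφD, hφ0, hφc⟩ : ∃ c₁ : Fˣ, ∃ φ ∈ D, φ ≠ 0 ∧ P φ = ι (c₁ : F) • φ := by
    by_contra hne
    push Not at hne
    have hpos : 0 < Fintype.card Fˣ := Fintype.card_pos
    have hζ : IsPrimitiveRoot (ι (c₀ : F)) (Fintype.card Fˣ) := by
      refine IsPrimitiveRoot.map_of_injective (f := ι) ?_ ι.injective
      refine IsPrimitiveRoot.map_of_injective (f := Units.coeHom F) ?_ Units.val_injective
      rw [← Nat.card_eq_fintype_card, ← orderOf_eq_card_of_forall_mem_zpowers hc₀]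
      exact IsPrimitiveRoot.orderOf c₀
    have hz : Polynomial.aeval P (∏ x ∈ Polynomial.nthRootsFinset (Fintype.card Fˣ) (1 : K),
        (Polynomial.X - Polynomial.C x)) φ₀ = 0 := by
      rw [← Polynomial.X_pow_sub_one_eq_prod hpos hζ, map_sub, map_pow, Polynomial.aeval_X, map_one,
        LinearMap.sub_apply, Module.End.one_apply, sub_eq_zero]
      ext v
      rw [hPpow, pow_card_eq_one, dg_one, map_one, Module.End.one_apply]
    suffices h : ∀ s ⊆ Polynomial.nthRootsFinset (Fintype.card Fˣ) (1 : K),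
        Polynomial.aeval P (∏ x ∈ s, (Polynomial.X - Polynomial.C x)) φ₀ ∈ D ∧
        Polynomial.aeval P (∏ x ∈ s, (Polynomial.X - Polynomial.C x)) φ₀ ≠ 0 from
      (h _ subset_rfl).2 hz
    intro s
    induction s using Finset.induction_on with
    | empty => intro _; simpa using And.intro hD hφ₀
    | insert x s hxs ih =>
      intro hsub
      obtain ⟨hx, hsub⟩ := Finset.insert_subset_iff.1 hsub
      obtain ⟨ih1, ih2⟩ := ih hsub
      haveI : NeZero (Fintype.card Fˣ) := ⟨hpos.ne'⟩
      obtain ⟨k, -, hk⟩ := hζ.eq_pow_of_pow_eq_one ((Polynomial.mem_nthRootsFinset hpos 1).1 hx)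
      rw [Finset.prod_insert hxs, map_mul, Module.End.mul_apply, map_sub, Polynomial.aeval_X,
        Polynomial.aeval_C, LinearMap.sub_apply, Module.algebraMap_end_apply]
      refine ⟨D.sub_mem (hPD _ ih1) (D.smul_mem _ ih1), sub_ne_zero.2 ?_⟩
      rw [← hk, ← map_pow, ← Units.val_pow_eq_pow_val]
      exact hne (c₀ ^ k) _ ih1 ih2
  obtain ⟨m, hm1, hm2, hm⟩ : ∃ m, m ≠ 0 ∧ m ≤ p ^ f - 1 ∧ c₁ = c₀ ^ m := by
    obtain ⟨k, hk⟩ : ∃ k : ℕ, c₀ ^ k = c₁ := by
      have h := mem_powers_iff_mem_zpowers.2 (hc₀ c₁)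
      exact Submonoid.mem_powers_iff _ _ |>.1 h
    have hpos : 0 < p ^ f - 1 := hcard ▸ Fintype.card_pos
    by_cases hk0 : k % (p ^ f - 1) = 0
    · refine ⟨p ^ f - 1, hpos.ne', le_rfl, ?_⟩
      rw [← hk, ← pow_mod_card, hcard, hk0, pow_zero, ← hcard, pow_card_eq_one]
    · refine ⟨k % (p ^ f - 1), hk0, (Nat.mod_lt _ hpos).le, ?_⟩
      rw [← hk, ← hcard, pow_mod_card]
  have hφT : ∀ (c : Fˣ) v, φ (ρ (dg c) v) = ι (c : F) ^ m * φ v := by
    intro c
    obtain ⟨k, rfl⟩ := (Submonoid.mem_powers_iff _ _).1 (mem_powers_iff_mem_zpowers.2 (hc₀ c))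
    intro v
    rw [← hPpow]
    have hk : (P ^ k) φ = (ι (c₁ : F) ^ k) • φ := by
      induction k with
      | zero => simp
      | succ k ih => rw [pow_succ, Module.End.mul_apply, hφc, map_smul, ih, smul_smul, pow_succ']
    rw [hk, LinearMap.smul_apply, smul_eq_mul, hm]
    push_cast
    rw [map_pow, map_pow, ← pow_mul, ← pow_mul, mul_comm m k]
  -- the map into functions
  have hrow : ∀ (g g' : SL(2, F)) v, g.1 1 = g'.1 1 → φ (ρ g' v) = φ (ρ g v) := by
    intro g g' v h
    obtain ⟨t, rfl⟩ := exists_up_mul h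
    rw [map_mul, Module.End.mul_apply, hφD]
  let gw : (w : Fin 2 → F) → w ≠ 0 → SL(2, F) := fun w h => (exists_row h).choose
  have hgw : ∀ w h, (gw w h).1 1 = w := fun w h => (exists_row h).choose_spec
  let Φ : V →ₗ[K] Fn F K :=
    { toFun := fun v w => if h : w = 0 then 0 else φ (ρ (gw w h) v)
      map_add' := fun u v => by funext w; by_cases h : w = 0 <;> simp [h]
      map_smul' := fun c v => by funext w; by_cases h : w = 0 <;> simp [h] }
  have hΦ : ∀ v (g : SL(2, F)) w, g.1 1 = w → Φ v w = φ (ρ g v) := by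
    intro v g w h
    have hw : w ≠ 0 := fun h0 => by
      have := g.2
      rw [Matrix.det_fin_two, show g.1 1 0 = 0 by rw [h, h0]; rfl,
        show g.1 1 1 = 0 by rw [h, h0]; rfl] at this
      simp at this
    show (if h : w = 0 then 0 else φ (ρ (gw w h) v)) = _
    rw [dif_neg hw]
    exact hrow _ _ _ ((h.trans (hgw w hw).symm))
  have hΦ0 : ∀ v, Φ v 0 = 0 := fun v => dif_pos rfl
  have hequiv : ∀ g v, Φ (ρ g v) = act g (Φ v) := by
    intro g v
    funext w
    by_cases hw : w = 0
    · rw [act_apply, hw, Matrix.zero_vecMul, hΦ0, hΦ0]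
    · rw [act_apply, hΦ _ (gw w hw) w (hgw w hw), hΦ v (gw w hw * g) _ ?_, map_mul,
        Module.End.mul_apply]
      rw [Matrix.SpecialLinearGroup.coe_mul]
      funext j
      rw [Matrix.mul_apply]
      simp [Matrix.vecMul, dotProduct, hgw w hw]
  have hhom : ∀ v, Hom' ι m (Φ v) := by
    intro v c w
    by_cases hw : w = 0
    · simp [hw, hΦ0]
    by_cases hc : c = 0
    · simp [hc, hΦ0, hm1]
    rw [hΦ v (dg (Units.mk0 c hc) * gw w hw) _ ?_, map_mul, Module.End.mul_apply, hφT,
      hΦ v (gw w hw) w (hgw w hw)]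
    · rfl
    funext j
    rw [Matrix.SpecialLinearGroup.coe_mul, Matrix.mul_apply]
    simp [dg, Fin.sum_univ_two, hgw w hw]
  have hinj : Function.Injective Φ := by
    rw [← LinearMap.ker_eq_bot]
    by_contra hne
    have h1 := hirr _ (fun g v hv => by
      rw [LinearMap.mem_ker] at hv ⊢
      rw [hequiv, hv, map_zero]) hne
    refine hφ0 (LinearMap.ext fun v => ?_)
    have h2 : Φ v ((1 : SL(2, F)).1 1) = 0 := by
      rw [LinearMap.mem_ker.1 (h1 ▸ Submodule.mem_top : v ∈ LinearMap.ker Φ)]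
      rfl
    rwa [hΦ v 1 _ rfl, map_one] at h2
  obtain ⟨v₁, -, hv₁, hv₁fix⟩ := exists_fixed ρ ⊤ (fun _ _ _ => trivial) top_ne_bot
  have hffix : ∀ t, act (up t) (Φ v₁) = Φ v₁ := fun t => by rw [← hequiv, hv₁fix]
  have hfval := fixed_apply ι (hhom v₁) hffix
  have hRinv : ∀ g, ∀ ψ ∈ LinearMap.range Φ, act g ψ ∈ LinearMap.range Φ := by
    rintro g _ ⟨v, rfl⟩
    exact ⟨ρ g v, hequiv g v⟩
  have hf0 : Φ v₁ ≠ 0 := fun h => hv₁ (hinj (by rw [h, map_zero]))
  set α := Φ v₁ ![1, 0]
  set β := Φ v₁ ![0, 1]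
  have hS : ((if m = p ^ f - 1 then -α else 0) + β) • cx ι ^ m ∈ LinearMap.range Φ := by
    rw [← sum_weyl ι hq hm1 hm2 (hhom v₁) hffix]
    exact Submodule.sum_mem _ fun t _ => hRinv _ _ (hRinv _ _ ⟨v₁, rfl⟩)
  by_cases hx : cx ι ^ m ∈ LinearMap.range Φ
  · obtain ⟨a, ha, rfl⟩ := wsum_surj (p := p) (f := f) (m := m) (by omega)
    have hle := top_generates ι hq ha hRinv hx
    have hall : ∀ v, Φ v ∈ tp ι p f a := by
      have h1 : (tp ι p f a).comap Φ = ⊤ := by
        refine hirr _ (fun g v hv => ?_) fun hbot => ?_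
        · show Φ (ρ g v) ∈ tp ι p f a
          rw [hequiv]
          exact tp_invariant ι g a _ hv
        · obtain ⟨v, hv⟩ := hx
          have h2 : v ∈ (tp ι p f a).comap Φ := by
            show Φ v ∈ tp ι p f a
            rw [hv]
            exact top_mem ι a
          rw [hbot, Submodule.mem_bot] at h2
          rw [h2, map_zero] at hv
          have h3 := congrFun hv ![1, 0]
          simp [cx] at h3
      intro v
      exact (h1.symm ▸ Submodule.mem_top : v ∈ (tp ι p f a).comap Φ)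
    refine ⟨a, ha, LinearEquiv.ofBijective (Φ.codRestrict _ hall)
      ⟨fun u v h => hinj (congrArg Subtype.val h), fun ψ => ?_⟩, fun g v => ?_⟩
    · obtain ⟨v, hv⟩ := hle ψ.2
      exact ⟨v, Subtype.ext hv⟩
    · exact Subtype.ext (hequiv g v)
  -- the trivial module
  have hcoef : (if m = p ^ f - 1 then -α else 0) + β = 0 := by
    by_contra hne
    exact hx ((Submodule.smul_mem_iff _ hne).1 hS)
  have hmm : m = p ^ f - 1 := by
    by_contra hne
    rw [if_neg hne, zero_add] at hcoef
    have hval : Φ v₁ = α • cx ι ^ m := by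
      funext w
      rw [hfval w, hcoef]
      by_cases hw : w 0 = 0 <;> simp [hw, cx, hm1, mul_comm]
    refine hx ?_
    have : α ≠ 0 := fun h => hf0 (by rw [hval, h, zero_smul])
    exact (Submodule.smul_mem_iff _ this).1 ⟨v₁, hval⟩
  rw [if_pos hmm, neg_add_eq_zero] at hcoef
  have hone : ∀ w : Fin 2 → F, w ≠ 0 → Φ v₁ w = α := by
    intro w hw
    have hp : ∀ s : F, s ≠ 0 → ι s ^ m = 1 := fun s hs => by
      rw [← map_pow, hmm, ← hq, FiniteField.pow_card_sub_one_eq_one _ hs, map_one]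
    rw [hfval w]
    split_ifs with h
    · rw [hp _ fun h1 => hw (funext fun j => by fin_cases j <;> simpa), one_mul]
      exact hcoef.symm
    · rw [hp _ h, one_mul]
  have hg1 : ∀ g, ρ g v₁ = v₁ := by
    intro g
    refine hinj ?_
    rw [hequiv]
    funext w
    by_cases hw : w = 0
    · simp [act_apply, hw, hΦ0]
    rw [act_apply, hone _ hw, hone]
    intro h
    apply hw
    have h2 : w ᵥ* g.1 ᵥ* (g⁻¹).1 = w := by
      rw [Matrix.vecMul_vecMul, ← Matrix.SpecialLinearGroup.coe_mul, mul_inv_cancel]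
      simp
    rw [← h2, h, Matrix.zero_vecMul]
  have hspan : Submodule.span K {v₁} = ⊤ := by
    refine hirr _ (fun g v hv => ?_) (by simpa using hv₁)
    obtain ⟨d, rfl⟩ := Submodule.mem_span_singleton.1 hv
    rw [map_smul, hg1]
    exact Submodule.smul_mem _ _ (Submodule.mem_span_singleton_self _)
  refine ⟨fun _ => 0, fun _ => (Fact.out : p.Prime).pos, ?_⟩
  have h1 : tp ι p f (fun _ => 0) = Submodule.span K {1} := by
    simp [tp, ← Submodule.one_eq_span]
  let L : K →ₗ[K] tp ι p f (fun _ => 0) :=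
    LinearMap.toSpanSingleton K _ ⟨1, h1 ▸ Submodule.mem_span_singleton_self _⟩
  have hL : Function.Bijective L := by
    refine ⟨fun x y h => ?_, fun ψ => ?_⟩
    · simpa [L] using congrFun (congrArg Subtype.val h) 0
    · have h2 : (ψ : Fn F K) ∈ Submodule.span K {(1 : Fn F K)} := h1 ▸ ψ.2
      obtain ⟨d, hd⟩ := Submodule.mem_span_singleton.1 h2
      exact ⟨d, Subtype.ext (by simpa [L] using hd)⟩
  let e1 : V ≃ₗ[K] K := (LinearEquiv.toSpanNonzeroSingleton K V v₁ hv₁ ≪≫ₗ
    (LinearEquiv.ofTop _ hspan)).symm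
  refine ⟨e1.trans (LinearEquiv.ofBijective L hL), fun g v => ?_⟩
  have hv : ρ g v = v := by
    obtain ⟨d, rfl⟩ :=
      Submodule.mem_span_singleton.1 (hspan.symm ▸ Submodule.mem_top : v ∈ Submodule.span K {v₁})
    rw [map_smul, hg1]
  rw [hv]
  refine Subtype.ext ?_
  funext w
  simp [tpRep_apply, act_apply, L]

end Cfsg.Lib.Linear.TwistPower
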